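import Cfsg.Agent.Lib.AutOmegaOdd.Points

/-!
Every automorphism of `Ω` in odd dimension and odd characteristic comes from a semisimilitude.
-/

set_option autoImplicit false

namespace Cfsg.Agent.Lib.AutOmegaOdd

open QuadraticMap Cfsg.Agent.Lib.Classical.Quad Cfsg.Agent.Lib.Classical.QuadOmega

universe u v

variable {F : Type u} [Field F] {V : Type v} [AddCommGroup V] [Module F V] {Q : QuadraticForm F V}
  {e f : V}

/-- The stabiliser of the two points. -/
def IsLevi (e f : V) (s : G Q) (t : F) : Prop :=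
  t ≠ 0 ∧ s.1.1 e = t • e ∧ s.1.1 f = t⁻¹ • f

theorem IsLevi.symm {s : G Q} {t : F} (h : IsLevi e f s t) : IsLevi f e s t⁻¹ :=
  ⟨inv_ne_zero h.1, h.2.2, by rw [inv_inv]; exact h.2.1⟩

theorem Levi_map (HP : Fr Q e f) {s : G Q} {t : F} (hs : IsLevi e f s t) {x : V}
    (hx : InW Q e f x) : InW Q e f (s.1.1 x) := by
  obtain ⟨ht, he, hf⟩ := hs
  constructor
  · have h := G_B s x e
    rw [he, hx.xe, polar_smul_right, smul_eq_mul, mul_eq_zero] at h
    exact h.resolve_left ht
  · have h := G_B s x f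
    rw [hf, hx.xf, polar_smul_right, smul_eq_mul, mul_eq_zero] at h
    exact h.resolve_left (inv_ne_zero ht)

theorem Levi_conj (HP : Fr Q e f) {s : G Q} {t : F} (hs : IsLevi e f s t) {x : V}
    (hx : InW Q e f x) : s * sg Q e x * s⁻¹ = sg Q e (t • s.1.1 x) := by
  rw [sg_conj HP.ee hx.ex, hs.2.1, sg_smul HP.ee (Levi_map HP hs hx).ex]

theorem unip_isLevi (HP : Fr Q e f) {x u : V} (hx : InW Q e f x) (hu : InW Q e f u) (hxQ : Q x = 0)
    (hxu : polar Q x u = 0) : IsLevi e f (sg Q x u) 1 :=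
  ⟨one_ne_zero, by rw [one_smul, sg_fix hxQ hxu hx.ex hu.ex],
    by rw [inv_one, one_smul, sg_fix hxQ hxu hx.fx hu.fx]⟩

theorem Norm.symm {β : MulAut (G Q)} (h : Norm e f β) : Norm f e β := ⟨h.mf, h.me⟩

theorem Norm.inv {β : MulAut (G Q)} (h : Norm e f β) : Norm e f β⁻¹ := ⟨inv_fix h.me, inv_fix h.mf⟩

theorem Norm.image {β : MulAut (G Q)} (hβ : Norm e f β) (HP : Fr Q e f) {x : V}
    (hx : InW Q e f x) : ∃ y, InW Q e f y ∧ β (sg Q e x) = sg Q e y :=
  (mem_U_e HP).1 (hβ.me ▸ Subgroup.mem_map_of_mem β.toMonoidHom (sg_mem_U e hx.ex))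

theorem point_of_U_eq (hH : Hyp Q) (HP : Fr Q e f) {x : V} (hx : Q x = 0) (h : U Q x = U Q e) :
    ∃ c : F, x = c • e :=
  U_fix hH HP fun r hr => by
    obtain ⟨u, hu, rfl⟩ := (mem_U hx).1 (h ▸ hr : r ∈ U Q x)
    exact sg_fix_self hx hu

theorem map_conj_eq {β : MulAut (G Q)} (K : Subgroup (G Q))
    (hK : K.map β.toMonoidHom = K) (z : G Q) :
    K.map (MulAut.conj (β z)).toMonoidHom = (K.map (MulAut.conj z).toMonoidHom).map β.toMonoidHom := by
  rw [show MulAut.conj (β z) = β * MulAut.conj z * β⁻¹ from MulEquiv.ext fun y => by simp,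
    ← map_map_mul, ← map_map_mul, inv_fix hK]

theorem Norm.stab_e (hH : Hyp Q) (HP : Fr Q e f) {β : MulAut (G Q)} (hβ : Norm e f β) {s : G Q}
    {t : F} (ht : t ≠ 0) (hs : s.1.1 e = t • e) : ∃ t' : F, t' ≠ 0 ∧ (β s).1.1 e = t' • e := by
  have h := map_conj_eq _ hβ.me s
  rw [map_conj_U _ HP.ee, map_conj_U _ HP.ee, hs, U_smul HP.ee ht, hβ.me] at h
  obtain ⟨c, hc⟩ := point_of_U_eq hH HP (by rw [G_Q, HP.ee]) h
  exact ⟨c, fun h0 => HP.e_ne ((β s).1.1.map_eq_zero_iff.1 (by rw [hc, h0, zero_smul])), hc⟩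

theorem Norm.levi (hH : Hyp Q) (HP : Fr Q e f) {β : MulAut (G Q)} (hβ : Norm e f β) {s : G Q}
    {t : F} (hs : IsLevi e f s t) : ∃ t', IsLevi e f (β s) t' := by
  obtain ⟨t', ht', he⟩ := hβ.stab_e hH HP hs.1 hs.2.1
  obtain ⟨t'', -, hf⟩ := hβ.symm.stab_e hH HP.symm (inv_ne_zero hs.1) hs.2.2
  refine ⟨t', ht', he, ?_⟩
  have h := G_B (β s) f e
  rw [hf, he, polar_smul_left, polar_smul_right, HP.fe, smul_eq_mul, smul_eq_mul, mul_one] at h
  rw [hf, eq_inv_of_mul_eq_one_left h]

theorem char_root {p : ℕ} [Fact p.Prime] [CharP F p] {t : F} (h : t ^ p = 1) : t = 1 := by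
  have h1 : (t - 1) ^ p = 0 := by rw [sub_pow_char, h, one_pow, sub_self]
  exact sub_eq_zero.1 (eq_zero_of_pow_eq_zero h1)

theorem sg_pow {x u : V} (hx : Q x = 0) (hu : polar Q x u = 0) (n : ℕ) :
    (sg Q x u) ^ n = sg Q x ((n : F) • u) := by
  induction n with
  | zero => rw [pow_zero, Nat.cast_zero, zero_smul, sg_zero hx]
  | succ n ih =>
    rw [pow_succ, ih, ← sg_add hx (by rw [polar_smul_right, hu, smul_zero]) hu, Nat.cast_succ,
      add_smul, one_smul]

theorem Q_of_B (hH : Hyp Q) {x y : V} {c : F} (h : polar Q x x = c * polar Q y y) :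
    Q x = c * Q y := by
  rw [polar_self, polar_self, nsmul_eq_mul, nsmul_eq_mul] at h
  refine mul_left_cancel₀ hH.two ?_
  linear_combination h

variable [Fintype F] [Finite V]

theorem eq_map_of_le {β : MulAut (G Q)} {K : Subgroup (G Q)} (h : K.map β.toMonoidHom ≤ K) :
    K.map β.toMonoidHom = K :=
  Subgroup.eq_of_le_of_card_ge h (Subgroup.card_map_of_injective β.injective).ge

/-- A normalised automorphism agrees with a semisimilitude on the root group of `e`. -/
theorem exists_semilinear (hH : Hyp Q) (HP : Fr Q e f) {β : MulAut (G Q)} (hβ : Norm e f β) :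
    ∃ ψ : Semi Q, (∀ x, InW Q e f x → (ψ.conjG⁻¹ * β) (sg Q e x) = sg Q e x) ∧
      Norm e f (ψ.conjG⁻¹ * β) := by
  obtain ⟨p, hp⟩ := CharP.exists F
  obtain ⟨d, hpp, -⟩ := FiniteField.card F p
  haveI : Fact p.Prime := ⟨hpp⟩
  have hex : ∀ x, InW Q e f x → ∃ y, InW Q e f y ∧ β (sg Q e x) = sg Q e y :=
    fun x hx => hβ.image HP hx
  choose! L hLW hL using hex
  have hLadd : ∀ x y, InW Q e f x → InW Q e f y → L (x + y) = L x + L y := fun x y hx hy => by
    have h := hL _ (hx.add hy)
    rw [sg_add HP.ee hx.ex hy.ex, map_mul, hL x hx, hL y hy,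
      ← sg_add HP.ee (hLW x hx).ex (hLW y hy).ex] at h
    exact (sg_e_inj HP ((hLW x hx).add (hLW y hy)) (hLW _ (hx.add hy)) h).symm
  have hLinj : ∀ x y, InW Q e f x → InW Q e f y → L x = L y → x = y := fun x y hx hy h =>
    sg_e_inj HP hx hy (β.injective (by rw [hL x hx, hL y hy, h]))
  have hL0 : L 0 = 0 := by
    have := hLadd 0 0 (InW.zero e f) (InW.zero e f)
    rwa [add_zero, left_eq_add] at this
  have hLsurj : ∀ y, InW Q e f y → ∃ x, InW Q e f x ∧ L x = y := by
    intro y hy
    obtain ⟨x, hx, h⟩ := hβ.inv.image HP hy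
    refine ⟨x, hx, sg_e_inj HP (hLW x hx) hy ?_⟩
    rw [← hL x hx, ← h, MulAut.apply_inv_self]
  choose! Li hLiW hLi using hLsurj
  have hact : ∀ s t, IsLevi e f s t → ∀ t', IsLevi e f (β s) t' →
      ∀ x, InW Q e f x → L (t • s.1.1 x) = t' • (β s).1.1 (L x) := by
    intro s t hs t' hs' x hx
    have hx1 := (Levi_map HP hs hx).smul t
    have h := hL _ hx1
    rw [← Levi_conj HP hs hx, map_mul, map_mul, map_inv, hL x hx, Levi_conj HP hs' (hLW x hx)] at h
    exact (sg_e_inj HP ((Levi_map HP hs' (hLW x hx)).smul t') (hLW _ hx1) h).symm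
  -- the field automorphism
  have hsig : ∀ c : F, ∃ d : F, ∀ x, InW Q e f x → L (c • x) = d • L x := by
    intro c
    obtain ⟨d, hd⟩ := commutant hH HP (C := fun y => L (c • Li y))
      (fun y hy => hLW _ ((hLiW y hy).smul c))
      (fun a b ha hb => by
        have : Li (a + b) = Li a + Li b := hLinj _ _ (hLiW _ (ha.add hb)) ((hLiW a ha).add (hLiW b hb))
          (by rw [hLi _ (ha.add hb), hLadd _ _ (hLiW a ha) (hLiW b hb), hLi a ha, hLi b hb])
        rw [this, smul_add, hLadd _ _ ((hLiW a ha).smul c) ((hLiW b hb).smul c)])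
      (fun x u hx hu hxQ hxu y hy => by
        have hs' := unip_isLevi HP hx hu hxQ hxu
        obtain ⟨t, hs⟩ := hβ.inv.levi hH HP hs'
        set g := sg Q x u
        set s := β⁻¹ g
        have hβs : β s = g := MulAut.apply_inv_self _ _ _
        have h1 := hact s t hs 1 (hβs ▸ hs') _ (hLiW y hy)
        rw [hLi y hy, one_smul, hβs] at h1
        have h2 : Li (g.1.1 y) = t • s.1.1 (Li y) :=
          hLinj _ _ (hLiW _ (Levi_map HP hs' hy)) ((Levi_map HP hs (hLiW y hy)).smul t)
            (by rw [hLi _ (Levi_map HP hs' hy), h1])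
        show L (c • Li (g.1.1 y)) = g.1.1 (L (c • Li y))
        have h3 := hact s t hs 1 (hβs ▸ hs') _ ((hLiW y hy).smul c)
        rw [one_smul, hβs, map_smul, smul_comm] at h3
        rw [h2, h3])
    refine ⟨d, fun x hx => ?_⟩
    have h := hd (L x) (hLW x hx)
    simp only [hLinj _ _ (hLiW _ (hLW x hx)) hx (hLi _ (hLW x hx))] at h
    exact h
  choose sgm hsgm using hsig
  obtain ⟨a, b, ha, hb, Hab⟩ := W_pair hH HP
  have hLa0 : L a ≠ 0 := fun h => Hab.e_ne (hLinj a 0 ha (InW.zero e f) (by rw [h, hL0]))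
  have suniq : ∀ c d : F, c • L a = d • L a → c = d := fun c d h => smul_left_injective F hLa0 h
  let σh : F →+* F :=
    { toFun := sgm
      map_one' := suniq _ _ (by rw [← hsgm 1 a ha, one_smul, one_smul])
      map_mul' := fun c d => suniq _ _ (by
        rw [← hsgm _ a ha, mul_smul, hsgm c _ (ha.smul d), hsgm d a ha, smul_smul])
      map_zero' := suniq _ _ (by rw [← hsgm 0 a ha, zero_smul, zero_smul, hL0])
      map_add' := fun c d => suniq _ _ (by
        rw [← hsgm _ a ha, add_smul, hLadd _ _ (ha.smul c) (ha.smul d), hsgm c a ha, hsgm d a ha,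
          add_smul]) }
  let σ : F ≃+* F := RingEquiv.ofBijective σh (Finite.injective_iff_bijective.1 σh.injective)
  have hLsmul : ∀ c x, InW Q e f x → L (c • x) = σ c • L x := fun c x hx => hsgm c x hx
  -- the form
  let B' : V → V → F := fun x y => σ.symm (polar Q (L x) (L y))
  have hinv : ∀ x u, InW Q e f x → InW Q e f u → Q x = 0 → polar Q x u = 0 → ∀ v w, InW Q e f v →
      InW Q e f w → B' ((sg Q x u).1.1 v) ((sg Q x u).1.1 w) = B' v w := by
    intro x u hx hu hxQ hxu v w hv hw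
    have hs := unip_isLevi HP hx hu hxQ hxu
    obtain ⟨t', hs'⟩ := hβ.levi hH HP hs
    have ht1 : t' = 1 := by
      have hpow : ∀ n : ℕ, ((β (sg Q x u)) ^ n).1.1 e = t' ^ n • e := by
        intro n
        induction n with
        | zero => rw [pow_zero, pow_zero, one_smul]; rfl
        | succ n ih => rw [pow_succ, G_mul, hs'.2.1, map_smul, ih, smul_smul, ← pow_succ']
      have h := hpow p
      rw [← map_pow, sg_pow hxQ hxu, CharP.cast_eq_zero, zero_smul, sg_zero hxQ, map_one] at h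
      refine char_root (p := p) (smul_left_injective F HP.e_ne ?_)
      show t' ^ p • e = (1 : F) • e
      rw [one_smul, ← h]
      rfl
    subst ht1
    have h1 := hact _ _ hs _ hs' v hv
    have h2 := hact _ _ hs _ hs' w hw
    rw [one_smul, one_smul] at h1 h2
    show σ.symm _ = σ.symm _
    rw [h1, h2, G_B]
  have hBadd : ∀ v x y, InW Q e f x → InW Q e f y → B' v (x + y) = B' v x + B' v y :=
    fun v x y hx hy => by
      show σ.symm _ = σ.symm _ + σ.symm _
      rw [hLadd x y hx hy, polar_add_right, map_add]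
  have hBsmul : ∀ v c x, InW Q e f x → B' v (c • x) = c * B' v x := fun v c x hx => by
    show σ.symm _ = _ * σ.symm _
    rw [hLsmul c x hx, polar_smul_right, smul_eq_mul, map_mul, RingEquiv.symm_apply_apply]
  have hBsymm : ∀ x y, B' x y = B' y x := fun x y => by
    show σ.symm _ = σ.symm _
    rw [polar_comm]
  have hline : ∀ x v, InW Q e f x → InW Q e f v → Fr Q x v →
      ∀ w, InW Q e f w → B' x w = polar Q x w * B' x v := by
    intro x v hx hv Hxv
    have key : ∀ u, InW Q e f u → polar Q x u = 0 →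
        B' x u = (polar Q v u + Q u) * B' x x := by
      intro u hu hxu
      have h := hinv x u hx hu Hxv.ee hxu x v hx hv
      rw [sg_fix_self Hxv.ee hxu, sg_apply Hxv.ee hxu, Hxv.fe, one_smul,
        show v + u - polar Q v u • x - (Q u * 1) • x = v + (u + (-(polar Q v u + Q u)) • x) by module,
        hBadd _ _ _ hv (hu.add (hx.smul _)), hBadd _ _ _ hu (hx.smul _), hBsmul _ _ _ hx] at h
      linear_combination h
    obtain ⟨u, hu, hu0, hux, huv⟩ := W_nonsing hH HP hx hv Hxv
    have hxx : B' x x = 0 := by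
      have h1 := key u hu (by rw [polar_comm, hux])
      have h2 := key (-u) hu.neg (by rw [polar_neg_right, polar_comm, hux, neg_zero])
      rw [polar_comm Q v u, huv, zero_add] at h1
      rw [polar_neg_right, polar_comm Q v u, huv, neg_zero, zero_add, QuadraticMap.map_neg,
        show -u = (-1 : F) • u by simp, hBsmul _ _ _ hu, h1] at h2
      have : (2 * Q u) * B' x x = 0 := by linear_combination -h2
      exact (mul_eq_zero.1 this).resolve_left (mul_ne_zero hH.two hu0)
    intro w hw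
    have hwu := hw.sub (hv.smul (polar Q x w))
    have h := key _ hwu (by
      rw [polar_sub_right, polar_smul_right, Hxv.ef, smul_eq_mul, mul_one, sub_self])
    rw [hxx, mul_zero] at h
    conv_lhs => rw [← sub_add_cancel w (polar Q x w • v)]
    rw [hBadd _ _ _ hwu (hv.smul _), h, zero_add, hBsmul _ _ _ hv]
  have hmu : ∀ x, InW Q e f x → Q x = 0 → x ≠ 0 →
      ∃ μ : F, ∀ w, InW Q e f w → B' x w = polar Q x w * μ := fun x hx hxQ hx0 => by
    obtain ⟨v, hv, Hxv⟩ := W_partner hH HP hx hxQ hx0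
    exact ⟨_, hline x v hx hv Hxv⟩
  choose! mu hmu' using hmu
  have hnp : ∀ x y, InW Q e f x → InW Q e f y → Q x = 0 → Q y = 0 → polar Q x y ≠ 0 →
      mu x = mu y := by
    intro x y hx hy hxQ hyQ hne
    have hx0 : x ≠ 0 := fun h => hne (by rw [h, polar_zero_left])
    have hy0 : y ≠ 0 := fun h => hne (by rw [h, polar_zero_right])
    have h := hBsymm x y
    rw [hmu' x hx hxQ hx0 y hy, hmu' y hy hyQ hy0 x hx, polar_comm Q y x] at h
    exact mul_left_cancel₀ hne h
  have hall : ∀ x, InW Q e f x → Q x = 0 → x ≠ 0 → mu x = mu a := by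
    intro x hx hxQ hx0
    by_cases h : polar Q x a = 0
    · obtain ⟨z, hz, hzQ, h1, h2⟩ := W_both hH HP hx ha hxQ Hab.ee hx0 Hab.e_ne h
      rw [hnp x z hx hz hxQ hzQ h1, ← hnp a z ha hz Hab.ee hzQ h2]
    · exact hnp x a hx ha hxQ Hab.ee h
  set μ := mu a with hμ
  have hBL : ∀ x, InW Q e f x → ∀ w, InW Q e f w →
      polar Q (L x) (L w) = σ μ * σ (polar Q x w) := by
    have h1 : ∀ x, InW Q e f x → ∀ w, InW Q e f w → B' x w = polar Q x w * μ := by
      refine W_induction hH HP (fun x y hx hy hX hY w hw => ?_) fun x hx hxQ w hw => ?_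
      · rw [hBsymm, hBadd _ _ _ hx hy, hBsymm w x, hBsymm w y, hX w hw, hY w hw, polar_add_left,
          add_mul]
      · rcases eq_or_ne x 0 with rfl | hx0
        · show σ.symm _ = _
          rw [hL0, polar_zero_left, polar_zero_left, map_zero, zero_mul]
        · rw [hmu' x hx hxQ hx0 w hw, hall x hx hxQ hx0]
    intro x hx w hw
    have := congrArg σ (h1 x hx w hw)
    simp only [B', RingEquiv.apply_symm_apply, map_mul] at this
    rw [this, mul_comm]
  have hμ0 : μ ≠ 0 := by
    intro h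
    obtain ⟨w, hw, h1⟩ := W_nondeg hH HP (hLW a ha) hLa0
    rw [← hLi w hw, hBL a ha _ (hLiW w hw), h, map_zero, zero_mul] at h1
    exact zero_ne_one h1
  set H := σ μ with hHdef
  have hH0 : H ≠ 0 := (map_ne_zero σ).2 hμ0
  -- the semisimilitude
  let Ψ : V →+ V :=
    AddMonoidHom.mk' (fun z => (H * σ (polar Q z f)) • e + σ (polar Q z e) • f + L (proj Q e f z))
      (fun z w => by
        have : proj Q e f (z + w) = proj Q e f z + proj Q e f w := by
          simp only [proj, polar_add_left]; module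
        rw [this, hLadd _ _ (proj_mem HP z) (proj_mem HP w), polar_add_left, polar_add_left, map_add,
          map_add, mul_add]
        module)
  have hΨ : ∀ z, Ψ z = (H * σ (polar Q z f)) • e + σ (polar Q z e) • f + L (proj Q e f z) :=
    fun z => rfl
  have hΨinj : Function.Injective Ψ := by
    refine (injective_iff_map_eq_zero Ψ).2 fun z hz => ?_
    rw [hΨ] at hz
    have hW := hLW _ (proj_mem HP z)
    have h1 := congrArg (fun v => polar Q v f) hz
    have h2 := congrArg (fun v => polar Q v e) hz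
    simp only [polar_add_left, polar_smul_left, polar_self_sing HP.ee, polar_self_sing HP.ff, HP.ef,
      HP.fe, hW.xe, hW.xf, polar_zero_left, smul_eq_mul, mul_zero, mul_one, add_zero, zero_add,
      mul_eq_zero, map_eq_zero, or_iff_right hH0] at h1 h2
    rw [h1, h2, map_zero, mul_zero, zero_smul, zero_smul, zero_add, zero_add, ← hL0] at hz
    rw [decomp (Q := Q) e f z, h1, h2, hLinj _ _ (proj_mem HP z) (InW.zero e f) hz]
    simp
  let ψ : Semi Q :=
    { σ := σ
      H := H
      H0 := hH0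
      map := AddEquiv.ofBijective Ψ (Finite.injective_iff_bijective.1 hΨinj)
      map_smul := fun c z => by
        show Ψ (c • z) = σ c • Ψ z
        have : proj Q e f (c • z) = c • proj Q e f z := by
          simp only [proj, polar_smul_left, smul_eq_mul]; module
        rw [hΨ, hΨ, this, hLsmul _ _ (proj_mem HP z), polar_smul_left, polar_smul_left, smul_eq_mul,
          smul_eq_mul, map_mul, map_mul]
        module
      map_Q := fun z => by
        show Q (Ψ z) = H * σ (Q z)
        have hr := proj_mem HP z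
        have hW := hLW _ hr
        have hQL : Q (L (proj Q e f z)) = H * σ (Q (proj Q e f z)) := by
          have h := hBL _ hr _ hr
          rw [polar_self, polar_self, nsmul_eq_mul, nsmul_eq_mul, map_mul, map_natCast] at h
          refine mul_left_cancel₀ (show ((2 : ℕ) : F) ≠ 0 by exact_mod_cast hH.two) ?_
          linear_combination h
        conv_rhs => rw [decomp (Q := Q) e f z]
        rw [hΨ]
        simp only [QuadraticMap.map_add ⇑Q, QuadraticMap.map_smul, polar_add_left, polar_smul_left,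
          polar_smul_right, HP.ee, HP.ff, HP.ef, hW.ex, hW.fx, hr.ex, hr.fx, hQL, smul_eq_mul,
          map_add, map_mul, mul_zero, add_zero, zero_add, mul_one]
        ring }
  have hψe : ψ.map e = H • e := by
    show Ψ e = _
    rw [hΨ, HP.ef, polar_self_sing HP.ee, show proj Q e f e = 0 by
      simp [proj, HP.ef, polar_self_sing HP.ee], hL0]
    simp
  have hψf : ψ.map f = f := by
    show Ψ f = _
    rw [hΨ, HP.fe, polar_self_sing HP.ff, show proj Q e f f = 0 by
      simp [proj, HP.fe, polar_self_sing HP.ff], hL0]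
    simp
  have hψW : ∀ x, InW Q e f x → ψ.map x = L x := fun x hx => by
    show Ψ x = _
    rw [hΨ, hx.xe, hx.xf, show proj Q e f x = x by simp [proj, hx.xe, hx.xf]]
    simp
  have hγ : ∀ x, InW Q e f x → ψ.conjG (sg Q e x) = sg Q e (L x) := fun x hx => by
    rw [ψ.conjG_sg HP.ee hx.ex, hψe, hψW x hx, inv_smul_smul₀ hH0]
  have hfix : ∀ x, InW Q e f x → (ψ.conjG⁻¹ * β) (sg Q e x) = sg Q e x := fun x hx => by
    show ψ.conjG⁻¹ (β (sg Q e x)) = _
    rw [hL x hx, MulAut.inv_apply, MulEquiv.symm_apply_eq, hγ x hx]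
  refine ⟨ψ, hfix, ?_, ?_⟩
  · refine eq_map_of_le ?_
    rintro _ ⟨z, hz, rfl⟩
    obtain ⟨x, hx, rfl⟩ := (mem_U_e HP).1 hz
    show (ψ.conjG⁻¹ * β) (sg Q e x) ∈ U Q e
    rw [hfix x hx]
    exact sg_mem_U e hx.ex
  · rw [← map_map_mul, hβ.mf]
    refine inv_fix (eq_map_of_le ?_)
    rintro _ ⟨z, hz, rfl⟩
    obtain ⟨x, hx, rfl⟩ := (mem_U_e HP.symm).1 hz
    show ψ.conjG (sg Q f x) ∈ U Q f
    rw [ψ.conjG_sg HP.ff hx.ex, hψf, ← U_smul HP.ff (inv_ne_zero hH0)]
    exact sg_mem_U _ (by rw [polar_smul_left, ← hψf, ψ.map_B, hx.ex, map_zero, mul_zero, smul_zero])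

omit [Fintype F] [Finite V] in
/-- The two root groups generate. -/
theorem closure_UU (hH : Hyp Q) (HP : Fr Q e f) : U Q e ⊔ U Q f = ⊤ := by
  set K := U Q e ⊔ U Q f
  have step : ∀ x y, Q x = 0 → Q y = 0 → polar Q x y ≠ 0 → U Q y ≤ K → (∀ g ∈ U Q y, g ∈ K) →
      ∀ z, Fr Q y z → U Q z ≤ K → U Q x ≤ K := by
    intro x y hx hy hxy hyK _ z Hyz hzK
    set x' := (polar Q x y)⁻¹ • x with hx'
    have hx'Q : Q x' = 0 := by rw [hx', QuadraticMap.map_smul, hx, smul_zero]
    obtain ⟨u, hu, hm⟩ := exists_siegel_move (x := z) (x' := x') (z := y) Hyz.ff hx'Q hy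
      (by rw [Hyz.fe]; exact one_ne_zero)
      (by rw [hx', polar_smul_left, smul_eq_mul, inv_mul_cancel₀ hxy, Hyz.fe])
    have hmem : sg Q y u ∈ K := hyK (sg_mem_U y hu)
    rw [← U_smul hx (inv_ne_zero hxy), ← hx',
      show x' = (sg Q y u).1.1 z from hm.symm, ← map_conj_U _ Hyz.ff]
    rintro _ ⟨g, hg, rfl⟩
    exact mul_mem (mul_mem hmem (hzK hg)) (inv_mem hmem)
  have he : ∀ x, Q x = 0 → polar Q x e ≠ 0 → U Q x ≤ K := fun x hx h =>
    step x e hx HP.ee h le_sup_left (fun g hg => le_sup_left (b := U Q f) hg) f HP le_sup_right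
  have hf : ∀ x, Q x = 0 → polar Q x f ≠ 0 → U Q x ≤ K := fun x hx h =>
    step x f hx HP.ff h le_sup_right (fun g hg => le_sup_right (a := U Q e) hg) e HP.symm le_sup_left
  have hall : ∀ x, x ≠ 0 → Q x = 0 → U Q x ≤ K := by
    intro x hx0 hx
    by_cases h1 : polar Q x e = 0
    · by_cases h2 : polar Q x f = 0
      · obtain ⟨u, hu, hxu⟩ := W_nondeg hH HP ⟨h1, h2⟩ hx0
        set y := (sg Q f u).1.1 x with hy
        have hye : polar Q y e ≠ 0 := by
          rw [hy, sg_apply HP.ff hu.fx, h2, hxu]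
          simp [polar_sub_left, h1, HP.fe]
        have hyK : U Q y ≤ K := he y (by rw [G_Q, hx]) hye
        have hmem : sg Q f u ∈ K := le_sup_right (a := U Q e) (sg_mem_U f hu.fx)
        intro g hg
        have := hyK (map_conj_U (sg Q f u) hx ▸ Subgroup.mem_map_of_mem _ hg :
          (MulAut.conj (sg Q f u)).toMonoidHom g ∈ U Q y)
        have h3 := mul_mem (mul_mem (inv_mem hmem) this) hmem
        simpa [mul_assoc] using h3
      · exact hf x hx h2
    · exact he x hx h1
  refine top_le_iff.1 fun g _ => ?_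
  have hle : siegelGroup Q ≤ K.map (siegelGroup Q).subtype := by
    conv_lhs => rw [siegelGroup]
    refine (Subgroup.closure_le _).2 ?_
    rintro _ ⟨x, u, hx, hu, rfl⟩
    rcases eq_or_ne x 0 with rfl | hx0
    · rw [sie_zero_left]; exact one_mem _
    exact ⟨sg Q x u, hall x hx0 hx (sg_mem_U x hu), rfl⟩
  obtain ⟨g', hg', he'⟩ := hle g.2
  exact Subtype.ext he' ▸ hg'

/-- A normalised automorphism fixing the root group of `e` pointwise is trivial. -/
theorem eq_one_of_norm (hH : Hyp Q) (HP : Fr Q e f) {β : MulAut (G Q)} (hβ : Norm e f β)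
    (hfix : ∀ x, InW Q e f x → β (sg Q e x) = sg Q e x) : β = 1 := by
  obtain ⟨a, b, ha, hb, Hab⟩ := W_pair hH HP
  have hlev : ∀ s t, IsLevi e f s t → β s = s := by
    intro s t hs
    obtain ⟨t', hs'⟩ := hβ.levi hH HP hs
    have hact : ∀ x, InW Q e f x → t' • (β s).1.1 x = t • s.1.1 x := by
      intro x hx
      have h := hfix _ ((Levi_map HP hs hx).smul t)
      rw [← Levi_conj HP hs hx, map_mul, map_mul, map_inv, hfix x hx, Levi_conj HP hs' hx,
        Levi_conj HP hs hx] at h
      exact sg_e_inj HP ((Levi_map HP hs' hx).smul t') ((Levi_map HP hs hx).smul t) h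
    obtain ⟨c, hc, hc0, -, -⟩ := W_nonsing hH HP ha hb Hab
    have htt : t' * t' = t * t := by
      have h := congrArg Q (hact c hc)
      rw [QuadraticMap.map_smul, QuadraticMap.map_smul, G_Q, G_Q, smul_eq_mul, smul_eq_mul] at h
      exact mul_right_cancel₀ hc0 h
    have hboth : ∀ z, (β s).1.1 z = (t' / t) • s.1.1 z := by
      intro z
      have h1 : t' * t' / (t * t) = 1 := by rw [htt, div_self (mul_ne_zero hs.1 hs.1)]
      have hW : ∀ x, InW Q e f x → (β s).1.1 x = (t' / t) • s.1.1 x := fun x hx => by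
        rw [← inv_smul_smul₀ hs'.1 ((β s).1.1 x), hact x hx, smul_smul]
        congr 1
        have := hs.1
        have := hs'.1
        field_simp
        linear_combination -htt
      rw [decomp (Q := Q) e f z]
      simp only [map_add, map_smul, hs.2.1, hs.2.2, hs'.2.1, hs'.2.2, hW _ (proj_mem HP z), smul_add,
        smul_smul]
      have := hs.1
      have := hs'.1
      match_scalars <;> field_simp
      linear_combination -polar Q z e * htt
    rcases mul_self_eq_mul_self_iff.1 htt with h | h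
    · exact G_ext fun z => by rw [hboth, h, div_self hs.1, one_smul]
    · exact (neg_absurd hH (β s) s fun z => by
        rw [hboth, h, neg_div, div_self hs.1, neg_one_smul]).elim
  have hex : ∀ x, InW Q f e x → ∃ y, InW Q f e y ∧ β (sg Q f x) = sg Q f y :=
    fun x hx => hβ.symm.image HP.symm hx
  choose! M hMW hM using hex
  obtain ⟨c, hc⟩ := commutant hH HP.symm (C := M) hMW
    (fun x y hx hy => by
      have h := hM _ (hx.add hy)
      rw [sg_add HP.ff hx.ex hy.ex, map_mul, hM x hx, hM y hy,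
        ← sg_add HP.ff (hMW x hx).ex (hMW y hy).ex] at h
      exact (sg_e_inj HP.symm ((hMW x hx).add (hMW y hy)) (hMW _ (hx.add hy)) h).symm)
    (fun x u hx hu hxQ hxu v hv => by
      have hs := unip_isLevi HP.symm hx hu hxQ hxu
      have hβs := hlev _ _ (unip_isLevi HP hx.symm hu.symm hxQ hxu)
      have h := hM _ (Levi_map HP.symm hs hv)
      rw [← one_smul F ((sg Q x u).1.1 v), ← Levi_conj HP.symm hs hv, map_mul, map_mul, map_inv, hβs,
        hM v hv, Levi_conj HP.symm hs (hMW v hv), one_smul, one_smul] at h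
      exact (sg_e_inj HP.symm (Levi_map HP.symm hs (hMW v hv)) (hMW _ (Levi_map HP.symm hs hv)) h).symm)
  obtain ⟨x, hx, hx0, -, -⟩ := W_nonsing hH HP ha hb Hab
  -- the swap
  have swap : ∀ k : F, (sg Q e x * sg Q f (k • x) * sg Q e x).1.1 e =
      (1 - Q x * k) ^ 2 • e + (k * (1 - k * Q x)) • x + (-(k ^ 2 * Q x)) • f := by
    intro k
    rw [G_mul, G_mul, sg_fix_self HP.ee hx.ex, sg_e_f HP.symm (hx.symm.smul k), map_sub, map_add,
      map_smul, map_smul, sg_fix_self HP.ee hx.ex, sg_e_fix HP hx hx, sg_e_f HP hx,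
      QuadraticMap.map_smul, polar_self, nsmul_eq_mul, smul_eq_mul]
    push_cast
    module
  have hc1 : c = 1 := by
    set k := (Q x)⁻¹
    set s := sg Q e x * sg Q f (k • x) * sg Q e x with hs
    have hse : s.1.1 e = (-k) • f := by
      rw [hs, swap, show k * Q x = 1 from inv_mul_cancel₀ hx0,
        show Q x * k = 1 from mul_inv_cancel₀ hx0, show k ^ 2 * Q x = k * (k * Q x) by ring,
        show k * Q x = 1 from inv_mul_cancel₀ hx0]
      simp
    have hβs : β s = sg Q e x * sg Q f ((c * k) • x) * sg Q e x := by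
      rw [hs, map_mul, map_mul, hfix x hx, hM _ (hx.symm.smul k), hc _ (hx.symm.smul k), smul_smul]
    have h := map_conj_eq _ hβ.me s
    rw [map_conj_U _ HP.ee, map_conj_U _ HP.ee, hse,
      U_smul HP.ff (neg_ne_zero.2 (inv_ne_zero hx0)), hβ.mf, hβs] at h
    obtain ⟨d, hd⟩ := point_of_U_eq hH HP.symm (by rw [G_Q, HP.ee]) h
    rw [swap] at hd
    have h1 := congrArg (fun v => polar Q v f) hd
    simp only [polar_add_left, polar_smul_left, HP.ef, hx.xf, polar_self_sing HP.ff, smul_eq_mul,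
      mul_one, mul_zero, add_zero, k] at h1
    rw [mul_left_comm, mul_inv_cancel₀ hx0, mul_one, sq_eq_zero_iff, sub_eq_zero] at h1
    exact h1.symm
  have hle : U Q e ⊔ U Q f ≤ β.toMonoidHom.eqLocus (MonoidHom.id (G Q)) := by
    refine sup_le ?_ ?_
    · intro g hg
      obtain ⟨u, hu, rfl⟩ := (mem_U_e HP).1 hg
      exact hfix u hu
    · intro g hg
      obtain ⟨u, hu, rfl⟩ := (mem_U_e HP.symm).1 hg
      show β (sg Q f u) = sg Q f u
      rw [hM u hu, hc u hu, hc1, one_smul]
  rw [closure_UU hH HP] at hle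
  exact MulEquiv.ext fun g => hle (Subgroup.mem_top g)

/-- Every automorphism is induced by a semisimilitude. -/
theorem std_all (hH : Hyp Q) (β : MulAut (G Q)) :
    ∃ (g : G Q) (ψ : Semi Q), β = MulAut.conj g * ψ.conjG := by
  obtain ⟨e, f, -, -, he, hf, -, -, hef, -⟩ := hH.good.two
  have HP : Fr Q e f := ⟨he, hf, hef⟩
  obtain ⟨g, hg⟩ := exists_normalise hH HP β
  obtain ⟨ψ, h1, h2⟩ := exists_semilinear hH HP hg
  have h := inv_mul_eq_one.1 (eq_one_of_norm hH HP h2 h1)
  exact ⟨g, ψ, by rw [h, mul_inv_cancel_left]⟩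

end Cfsg.Agent.Lib.AutOmegaOdd
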