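import Cfsg.Agent.Lib.AutOmegaOdd.Outer
import Cfsg.Agent.Lib.Classical.QuadOmega.BaseChange
import Cfsg.Agent.Lib.Classical.QuadOmega.Normal
import Cfsg.Agent.Lib.AutPSp.Split
import Cfsg.Agent.Lib.AutPSp.Lang
import Cfsg.Agent.Lib.AutPSL.Field

/-!
Field automorphisms of prime order of `PΩ` in odd dimension: fixed points, classes, conjugacy in the coset.
-/

set_option autoImplicit false

namespace Cfsg.Agent.Lib.AutOmegaOdd

open QuadraticMap Matrix Cfsg.Agent.Lib.Classical.Quad Cfsg.Agent.Lib.Classical.QuadOmega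

universe u v

variable {m : ℕ} {F : Type u} [Field F] {K : Type v} [Field K]

theorem vec_single (ι : K →+* F) (i : I m) :
    (fun j => ι ((Pi.single i 1 : I m → K) j)) = (Pi.single i 1 : I m → F) :=
  funext fun j => by by_cases hj : j = i <;> simp [hj]

theorem iso_ext_base (ι : K →+* F) {h h' : isoG (Qo m F)}
    (H : ∀ v : I m → K, h.1 (fun i => ι (v i)) = h'.1 (fun i => ι (v i))) : h = h' := by
  have e : (h.1 : (I m → F) →ₗ[F] I m → F) = h'.1 := (Pi.basisFun F (I m)).ext fun i => by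
    rw [Pi.basisFun_apply, ← vec_single ι]
    exact H _
  exact iso_ext fun v => LinearMap.congr_fun e v

theorem polar_map (ι : K →+* F) (v w : I m → K) :
    polar (Qo m F) (fun i => ι (v i)) (fun i => ι (w i)) = ι (polar (Qo m K) v w) := by
  simp only [polar]
  rw [show ((fun i => ι (v i)) + fun i => ι (w i)) = fun i => ι ((v + w) i) from
    funext fun i => (map_add ι _ _).symm, Qo_map, Qo_map, Qo_map, map_sub, map_sub]

/-- Isometries over a smaller field. -/
noncomputable def liftI (ι : K →+* F) : isoG (Qo m K) →* isoG (Qo m F) :=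
  (toI m F).toMonoidHom.comp <|
    (MulEquiv.subgroupCongr (show Cfsg.isometryGroup F ⇑(Qo m F) =
      Cfsg.isometryGroup F (Cfsg.quadFormOdd m F) by
        rw [show (⇑(Qo m F) : (I m → F) → F) = Cfsg.quadFormOdd m F from funext Qo_apply])).toMonoidHom.comp <|
      (extendHom ι (Cfsg.quadFormOdd m K) (Qo m F) fun v => by rw [Qo_map, Qo_apply]).comp
        (toI m K).symm.toMonoidHom

theorem liftI_apply (ι : K →+* F) (g : isoG (Qo m K)) (v : I m → K) :
    (liftI ι g).1 (fun i => ι (v i)) = fun i => ι (g.1 v i) := by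
  obtain ⟨s, rfl⟩ := (toI m K).surjective g
  show (((toI m K).symm (toI m K s) : GL (I m) K).1.map ι) *ᵥ (fun i => ι (v i)) = _
  rw [MulEquiv.symm_apply_apply]
  funext i
  exact (RingHom.map_mulVec ι _ v i).symm

theorem liftI_injective (ι : K →+* F) : Function.Injective (liftI (m := m) ι) := fun g g' h =>
  iso_ext fun v => funext fun i => ι.injective (congrFun (by
    rw [← liftI_apply, h, liftI_apply] : (fun i => ι (g.1 v i)) = fun i => ι (g'.1 v i)) i)

theorem liftI_refl (ι : K →+* F) {w : I m → K} (hw : Qo m K w ≠ 0) :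
    liftI ι (refl (Qo m K) w) = refl (Qo m F) fun i => ι (w i) := by
  refine iso_ext_base ι fun v => ?_
  rw [liftI_apply, refl_apply hw, refl_apply (by rw [Qo_map]; exact (map_ne_zero ι).2 hw), polar_map,
    Qo_map]
  funext i
  simp [map_div₀]

theorem liftI_negOne [Fintype F] [Fintype K] (ι : K →+* F) :
    liftI ι (negOne (Qo m K)) = negOne (Qo m F) :=
  iso_ext_base ι fun v => by rw [liftI_apply]; funext i; simp

/-- A linear map keeping the vectors over the subfield restricts. -/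
theorem exists_restrict (ι : K →+* F) (L : (I m → F) →ₗ[F] (I m → F))
    (hL : ∀ (v : I m → K) i, L (fun j => ι (v j)) i ∈ Set.range ι) :
    ∃ L₀ : (I m → K) →ₗ[K] (I m → K), ∀ v, (fun i => ι (L₀ v i)) = L fun i => ι (v i) := by
  choose f hf using hL
  refine ⟨{ toFun := f, map_add' := fun v w => funext fun i => ι.injective ?_,
            map_smul' := fun c v => funext fun i => ι.injective ?_ }, fun v => funext (hf v)⟩
  · rw [Pi.add_apply, map_add, hf, hf, hf, ← Pi.add_apply, ← map_add L]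
    exact congrArg (fun z => L z i) (funext fun j => by simp)
  · rw [RingHom.id_apply, Pi.smul_apply, smul_eq_mul, map_mul, hf, hf, ← smul_eq_mul, ← Pi.smul_apply,
      ← map_smul L]
    exact congrArg (fun z => L z i) (funext fun j => by simp)

variable [Fintype F] [Fintype K]

/-- An isometry which a field automorphism fixes up to sign comes from the fixed field. -/
theorem exists_lift_of_moved (hm : 3 ≤ m) (hH : Hyp (Qo m F)) {σ : F ≃+* F} (ι : K →+* F)
    (hι : ∀ c : F, σ c = c ↔ c ∈ Set.range ι) {h : isoG (Qo m F)}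
    (hh : mapI σ h = h ∨ mapI σ h = negOne (Qo m F) * h) : ∃ g, liftI ι g = h := by
  have hfix : ∀ v : I m → K, (fun i => σ (ι (v i))) = fun i => ι (v i) := fun v =>
    funext fun i => (hι _).2 ⟨_, rfl⟩
  rcases hh with hh | hh
  · have hL : ∀ (v : I m → K) i, (h.1 : (I m → F) →ₗ[F] I m → F) (fun j => ι (v j)) i ∈ Set.range ι := by
      intro v i
      refine (hι _).1 ?_
      have := congrFun (mapI_apply σ h fun j => ι (v j)) i
      rw [hfix, hh] at this
      exact this.symm
    obtain ⟨L₀, hL₀⟩ := exists_restrict ι _ hL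
    have hinj : Function.Injective L₀ := fun a b hab => funext fun i => ι.injective <| congrFun
      (h.1.injective (show h.1 (fun i => ι (a i)) = h.1 (fun i => ι (b i)) from
        (hL₀ a).symm.trans ((by rw [hab] : (fun i => ι (L₀ a i)) = fun i => ι (L₀ b i)).trans (hL₀ b)))) i
    refine ⟨⟨LinearEquiv.ofInjectiveEndo L₀ hinj, fun v => ι.injective ?_⟩, iso_ext_base ι fun v => ?_⟩
    · show ι (Qo m K (L₀ v)) = _
      rw [← Qo_map, hL₀, ← Qo_map ι v]
      exact iso_Q h _
    · rw [liftI_apply]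
      exact hL₀ v
  · exfalso
    have hK : Hyp (Qo m K) := hyp_Qo (fun h0 => hH.two (by rw [← map_ofNat ι 2, h0, map_zero])) hm
    have hanti : ∀ (v : I m → K) i, σ (h.1 (fun j => ι (v j)) i) = -(h.1 (fun j => ι (v j)) i) := by
      intro v i
      have := congrFun (mapI_apply σ h fun j => ι (v j)) i
      rw [hfix, hh] at this
      exact this.symm
    set u : I m → K := Pi.single (.inl ()) 1 with hu
    have hQu : Qo m K u = 1 := by simp [hu, Qo_formula]
    obtain ⟨i₀, hi₀⟩ : ∃ i, h.1 (fun j => ι (u j)) i ≠ 0 := by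
      by_contra! h0
      have h1 := iso_Q h (fun j => ι (u j))
      rw [show h.1 (fun j => ι (u j)) = 0 from funext h0, map_zero, Qo_map, hQu, map_one] at h1
      exact zero_ne_one h1
    set c := h.1 (fun j => ι (u j)) i₀
    have hc : σ c = -c := hanti u i₀
    obtain ⟨L₀, hL₀⟩ := exists_restrict ι (c⁻¹ • (h.1 : (I m → F) →ₗ[F] I m → F)) fun v i => (hι _).1 (by
      show σ (c⁻¹ * h.1 (fun j => ι (v j)) i) = c⁻¹ * h.1 (fun j => ι (v j)) i
      rw [map_mul, map_inv₀, hc, hanti, inv_neg, neg_mul_neg])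
    have hQ : ∀ v, ι (Qo m K (L₀ v)) = c⁻¹ * c⁻¹ * ι (Qo m K v) := fun v => by
      rw [← Qo_map, hL₀, ← Qo_map ι v]
      show Qo m F (c⁻¹ • h.1 _) = _
      rw [QuadraticMap.map_smul, iso_Q, smul_eq_mul]
    have hd : ι (Qo m K (L₀ u)) = c⁻¹ * c⁻¹ := by rw [hQ, hQu, map_one, mul_one]
    have hd0 : Qo m K (L₀ u) ≠ 0 := fun h0 => by
      rw [h0, map_zero] at hd
      exact mul_ne_zero (inv_ne_zero hi₀) (inv_ne_zero hi₀) hd.symm
    obtain ⟨l, hl0, hl⟩ := exists_sqrt_mult hK L₀ hd0 fun v => ι.injective (by rw [hQ, map_mul, hd])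
    have hcl : c⁻¹ = ι l ∨ c⁻¹ = -ι l := mul_self_eq_mul_self_iff.1 (by rw [← hd, hl, pow_two, map_mul])
    have hσ : σ c⁻¹ = c⁻¹ := by
      rcases hcl with e | e <;> rw [e]
      · exact (hι _).2 ⟨l, rfl⟩
      · exact (hι _).2 ⟨-l, map_neg ι l⟩
    rw [map_inv₀, hc, inv_neg, neg_eq_iff_add_eq_zero, ← two_mul] at hσ
    exact mul_ne_zero hH.two (inv_ne_zero hi₀) hσ

theorem mapI_lift {σ : F ≃+* F} (ι : K →+* F) (hι : ∀ c : F, σ c = c ↔ c ∈ Set.range ι)
    (g : isoG (Qo m K)) : mapI σ (liftI ι g) = liftI ι g := by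
  have hfix : ∀ v : I m → K, (fun i => σ (ι (v i))) = fun i => ι (v i) := fun v =>
    funext fun i => (hι _).2 ⟨_, rfl⟩
  refine iso_ext_base ι fun v => ?_
  conv_lhs => rw [← hfix v]
  rw [mapI_apply, liftI_apply]
  exact hfix _

theorem cI_centralizes_iff (hm : 3 ≤ m) (hH : Hyp (Qo m F)) {σ : F ≃+* F} (ι : K →+* F)
    (hι : ∀ c : F, σ c = c ↔ c ∈ Set.range ι) {h : isoG (Qo m F)} :
    cI hH h ∈ Subgroup.centralizer {Fld hH σ} ↔ ∃ g, liftI ι g = h := by
  rw [Subgroup.mem_centralizer_singleton_iff, twist, mul_left_inj, eq_comm]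
  constructor
  · intro e
    exact exists_lift_of_moved hm hH ι hι ((cI_eq_iff hH).1 e)
  · rintro ⟨g, rfl⟩
    rw [mapI_lift ι hι]

theorem range_lift (hm : 3 ≤ m) (hH : Hyp (Qo m F)) {σ : F ≃+* F} (ι : K →+* F)
    (hι : ∀ c : F, σ c = c ↔ c ∈ Set.range ι) :
    ((cI hH).comp (liftI ι)).range =
      Cfsg.inndiagPOmegaOdd m F ⊓ Subgroup.centralizer {Fld hH σ} := by
  rw [inndiag_eq hH]
  apply le_antisymm
  · rintro _ ⟨g, rfl⟩
    exact ⟨⟨_, rfl⟩, (cI_centralizes_iff hm hH ι hι).2 ⟨g, rfl⟩⟩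
  · rintro _ ⟨⟨h, rfl⟩, hh⟩
    obtain ⟨g, rfl⟩ := (cI_centralizes_iff hm hH ι hι).1 hh
    exact ⟨g, rfl⟩

theorem centralizer_iso (hm : 3 ≤ m) (hH : Hyp (Qo m F)) {σ : F ≃+* F} (ι : K →+* F)
    (hι : ∀ c : F, σ c = c ↔ c ∈ Set.range ι) :
    Nonempty (↥(Cfsg.inndiagPOmegaOdd m F ⊓ Subgroup.centralizer {Fld hH σ}) ≃*
      ↥(Cfsg.inndiagPOmegaOdd m K)) := by
  have hK : Hyp (Qo m K) := hyp_Qo (fun h0 => hH.two (by rw [← map_ofNat ι 2, h0, map_zero])) hm
  have hker : ((cI hH).comp (liftI ι)).ker = (cI hK).ker := by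
    ext g
    rw [MonoidHom.mem_ker, MonoidHom.mem_ker, MonoidHom.comp_apply, cI_eq_one_iff, cI_eq_one_iff,
      map_eq_one_iff _ (liftI_injective ι), ← liftI_negOne ι, (liftI_injective ι).eq_iff]
  exact ⟨(MulEquiv.subgroupCongr (range_lift hm hH ι hι).symm).trans
    ((QuotientGroup.quotientKerEquivRange _).symm.trans ((QuotientGroup.quotientMulEquivOfEq hker).trans
      ((QuotientGroup.quotientKerEquivRange _).trans (MulEquiv.subgroupCongr (inndiag_eq hK).symm))))⟩

/-- The class of a field automorphism splits as often as the spinor character fails to be onto on fixed isometries. -/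
theorem split_eq_index (hm : 3 ≤ m) (hH : Hyp (Qo m F)) {σ : F ≃+* F} (ι : K →+* F)
    (hι : ∀ c : F, σ c = c ↔ c ∈ Set.range ι) :
    Cfsg.splitClassCount (Cfsg.inndiagPOmegaOdd m F) (Cfsg.Inn (P m F)) (Fld hH σ) =
      ((chi hH).comp (liftI ι)).range.index := by
  haveI : (Cfsg.Inn (P m F)).Normal := AutPSp.normal_inn
  rw [AutPSp.splitClassCount_relIndex _ _ (by rw [inndiag_eq hH]; exact inn_le hH),
    ← range_lift hm hH ι hι, inndiag_eq hH, ← Subgroup.index_comap,
    ← Subgroup.index_comap_of_surjective _ (chi_surjective hH)]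
  congr 1
  ext h
  rw [Subgroup.mem_comap, Subgroup.mem_comap, Subgroup.mem_sup_of_normal_left]
  constructor
  · rintro ⟨a, ha, _, ⟨g, rfl⟩, e⟩
    refine ⟨g, ?_⟩
    have h1 : cI hH (h * (liftI ι g)⁻¹) ∈ Cfsg.Inn (P m F) := by
      rw [map_mul, map_inv, ← e]
      simpa [MonoidHom.comp_apply] using ha
    have h2 := (cI_mem_inn hH).1 h1
    rw [map_mul, map_inv, mul_inv_eq_one] at h2
    exact h2.symm
  · rintro ⟨g, hg⟩
    refine ⟨cI hH (h * (liftI ι g)⁻¹), (cI_mem_inn hH).2 ?_, _, ⟨g, rfl⟩, ?_⟩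
    · rw [map_mul, map_inv, mul_inv_eq_one]; exact hg.symm
    · rw [MonoidHom.comp_apply, ← map_mul, inv_mul_cancel_right]

theorem isSquare_nonzero (hH : Hyp (Qo m F)) : ringChar F ≠ 2 := fun h => hH.two (by
  haveI := ringChar.charP F
  exact_mod_cast (CharP.cast_eq_zero_iff F (ringChar F) 2).2 (by rw [h]))

theorem split_one (hm : 3 ≤ m) (hH : Hyp (Qo m F)) {σ : F ≃+* F} (ι : K →+* F)
    (hι : ∀ c : F, σ c = c ↔ c ∈ Set.range ι) {r : ℕ} (hcard : Fintype.card F = Fintype.card K ^ r)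
    (hodd : Odd r) :
    Cfsg.splitClassCount (Cfsg.inndiagPOmegaOdd m F) (Cfsg.Inn (P m F)) (Fld hH σ) = 1 := by
  have hK : Hyp (Qo m K) := hyp_Qo (fun h0 => hH.two (by rw [← map_ofNat ι 2, h0, map_zero])) hm
  rw [split_eq_index hm hH ι hι, Subgroup.index_eq_one, MonoidHom.range_eq_top]
  -- a reflection of nontrivial character
  obtain ⟨h, hh⟩ := chi_surjective hH (-1)
  obtain ⟨w, hw, hwc⟩ : ∃ w, Qo m F w ≠ 0 ∧ chi hH (refl (Qo m F) w) = -1 := by
    by_contra! hno
    have : Subgroup.closure {r | ∃ w, Qo m F w ≠ 0 ∧ r = refl (Qo m F) w} ≤ (chi hH).ker := by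
      refine (Subgroup.closure_le _).2 ?_
      rintro _ ⟨w, hw, rfl⟩
      exact (Int.units_eq_one_or _).resolve_right (hno w hw)
    have := this (closure_refl_eq_top hH.good ▸ Subgroup.mem_top h)
    rw [MonoidHom.mem_ker, hh] at this
    exact absurd this (by decide)
  have hF2 := isSquare_nonzero hH
  have hK2 := isSquare_nonzero hK
  -- an element of the subfield in the same square class
  obtain ⟨b, hb0, hb⟩ : ∃ b : K, b ≠ 0 ∧ IsSquare (ι b / Qo m F w) := by
    by_cases hsq : IsSquare (Qo m F w)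
    · exact ⟨1, one_ne_zero, by rw [map_one]; exact IsSquare.div IsSquare.one hsq⟩
    obtain ⟨b, hb⟩ := FiniteField.exists_nonsquare hK2
    have hb0 : b ≠ 0 := fun h0 => hb (by rw [h0]; exact IsSquare.zero)
    refine ⟨b, hb0, ?_⟩
    rw [FiniteField.isSquare_iff hF2 (div_ne_zero ((map_ne_zero ι).2 hb0) hw), div_pow]
    have h1 : Qo m F w ^ (Fintype.card F / 2) = -1 := (FiniteField.pow_dichotomy hF2 hw).resolve_left
      fun h1 => hsq ((FiniteField.isSquare_iff hF2 hw).2 h1)
    have h2 : b ^ (Fintype.card K / 2) = -1 := (FiniteField.pow_dichotomy hK2 hb0).resolve_left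
      fun h1 => hb ((FiniteField.isSquare_iff hK2 hb0).2 h1)
    set q := Fintype.card K
    have hq : Odd q := odd_card_of_two_ne_zero hK.two
    have hq2 : 2 ≤ q := Fintype.one_lt_card
    have hS : Fintype.card F / 2 = q / 2 * ∑ i ∈ Finset.range r, q ^ i := by
      have h3 := geom_sum_mul_of_one_le (x := q) (by omega) r
      have hq' := Nat.odd_iff.1 hq
      rw [show q - 1 = 2 * (q / 2) by omega] at h3
      have h4 : (2 : ℕ) * (q / 2 * ∑ i ∈ Finset.range r, q ^ i) = q ^ r - 1 := by rw [← h3]; ring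
      have h5 := Nat.odd_iff.1 (hq.pow (n := r))
      omega
    have hSodd : Odd (∑ i ∈ Finset.range r, q ^ i) := by
      rw [Nat.odd_iff, Finset.sum_nat_mod,
        Finset.sum_congr rfl fun i _ => Nat.odd_iff.1 (hq.pow (n := i))]
      simpa using Nat.odd_iff.1 hodd
    rw [h1, hS, pow_mul, ← map_pow, h2, map_neg, map_one, hSodd.neg_one_pow, div_self (neg_ne_zero.2 one_ne_zero)]
  set e : I m → K := Pi.single (.inr (.inl ⟨0, by omega⟩)) b + Pi.single (.inr (.inr ⟨0, by omega⟩)) 1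
  have hQ : Qo m K e = b := by simp [e, Qo_formula, Pi.single_apply]
  intro z
  rcases Int.units_eq_one_or z with rfl | rfl
  · exact ⟨1, map_one _⟩
  · refine ⟨refl (Qo m K) e, ?_⟩
    rw [MonoidHom.comp_apply, liftI_refl ι (by rwa [hQ]),
      chi_refl_class hH hw (by rwa [Qo_map, hQ]) (by rw [Qo_map, hQ]; exact (map_ne_zero ι).2 hb0)]
    exact hwc

theorem split_two (hm : 3 ≤ m) (hH : Hyp (Qo m F)) {σ : F ≃+* F} (ι : K →+* F)
    (hι : ∀ c : F, σ c = c ↔ c ∈ Set.range ι) (hcard : Fintype.card F = Fintype.card K ^ 2) :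
    Cfsg.splitClassCount (Cfsg.inndiagPOmegaOdd m F) (Cfsg.Inn (P m F)) (Fld hH σ) = 2 := by
  have hK : Hyp (Qo m K) := hyp_Qo (fun h0 => hH.two (by rw [← map_ofNat ι 2, h0, map_zero])) hm
  rw [split_eq_index hm hH ι hι]
  set u : I m → F := Pi.single (.inl ()) 1 with hu
  have hQu : Qo m F u = 1 := by simp [hu, Qo_formula]
  have hu0 : Qo m F u ≠ 0 := by rw [hQu]; exact one_ne_zero
  have hF2 := isSquare_nonzero hH
  have hsq : ∀ b : K, b ≠ 0 → IsSquare (ι b) := fun b hb => by
    rw [FiniteField.isSquare_iff hF2 ((map_ne_zero ι).2 hb), ← map_pow, ← map_one ι]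
    congr 1
    set q := Fintype.card K
    have hq : Odd q := odd_card_of_two_ne_zero hK.two
    obtain ⟨k, hk⟩ := hq
    have : Fintype.card F / 2 = (q - 1) * (k + 1) := by
      rw [hcard, hk, Nat.add_sub_cancel]
      rw [show (2 * k + 1) ^ 2 = 2 * (2 * k * (k + 1)) + 1 by ring]
      omega
    rw [this, pow_mul, FiniteField.pow_card_sub_one_eq_one b hb, one_pow]
  set c₁ := chi hH (refl (Qo m F) u)
  have hgen : ∀ g : isoG (Qo m K), chi hH (liftI ι g) =
      if c₁ = 1 then 1 else dickson hK.good g := by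
    intro g
    have hg : g ∈ Subgroup.closure {r | ∃ w, Qo m K w ≠ 0 ∧ r = refl (Qo m K) w} :=
      closure_refl_eq_top hK.good ▸ Subgroup.mem_top g
    induction hg using Subgroup.closure_induction with
    | mem z hz =>
      obtain ⟨w, hw, rfl⟩ := hz
      rw [liftI_refl ι hw, chi_refl_class hH hu0 (v := fun i => ι (w i))
        (by rw [Qo_map, hQu, div_one]; exact hsq _ hw) (by rw [Qo_map]; exact (map_ne_zero ι).2 hw),
        dickson_refl _ hw]
      rcases Int.units_eq_one_or c₁ with e | e <;> simp [e, c₁] at e ⊢ <;> rw [e]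
    | one => simp
    | mul a b _ _ ha hb => rw [map_mul, map_mul, ha, hb]; split <;> simp
    | inv a _ ha => rw [map_inv, map_inv, ha]; split <;> simp
  have hc₁ : c₁ = 1 := by
    by_contra hc
    have := hgen (negOne (Qo m K))
    rw [liftI_negOne, chi_negOne, if_neg hc, dickson_neg hK] at this
    exact absurd this (by decide)
  have : ((chi hH).comp (liftI ι)).range = ⊥ := by
    rw [eq_bot_iff]
    rintro _ ⟨g, rfl⟩
    rw [Subgroup.mem_bot, MonoidHom.comp_apply, hgen, if_pos hc₁]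
  rw [this, Subgroup.index_bot, Nat.card_eq_fintype_card, Fintype.card_units_int]

/-! ### The coset -/

/-- The field of fixed elements. -/
def fixF (σ : F ≃+* F) : Subfield F := RingHom.eqLocusField σ.toRingHom (RingHom.id F)

omit [Fintype F] in
theorem mem_fixF {σ : F ≃+* F} {x : F} : x ∈ fixF σ ↔ σ x = x := Iff.rfl

omit [Fintype K] in
/-- Lang's theorem for the orthogonal group. -/
theorem exists_conj_of_field (hm : 3 ≤ m) (hH : Hyp (Qo m F)) {σ : F ≃+* F} {r : ℕ}
    (hr : orderOf σ = r) (hr0 : 0 < r) (h : isoG (Qo m F))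
    (hp : (cI hH h * Fld hH σ) ^ r = 1) :
    ∃ a, cI hH h * Fld hH σ = cI hH a * Fld hH σ * (cI hH a)⁻¹ := by
  classical
  rw [AutPSL.tw_pow (mapI σ) (cI hH) _ (twist hH σ) h r, ← map_pow, ← hr, pow_orderOf_eq_one, map_one,
    mul_one, hr, cI_eq_one_iff] at hp
  let Θ : isoG (Qo m F) →* GL (I m) F :=
    (Cfsg.isometryGroup F (Cfsg.quadFormOdd m F)).subtype.comp (toI m F).symm.toMonoidHom
  have hΘ : ∀ g v, ((Θ g : GL (I m) F) : Matrix (I m) (I m) F) *ᵥ v = g.1 v := fun g v => by
    obtain ⟨s, rfl⟩ := (toI m F).surjective g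
    show (((toI m F).symm (toI m F s) : Cfsg.isometryGroup F (Cfsg.quadFormOdd m F)) : GL (I m) F).1 *ᵥ v = _
    rw [MulEquiv.symm_apply_apply]; rfl
  have hΘσ : ∀ g, Θ (mapI σ g) = AutPSp.mapG σ (Θ g) := fun g => by
    refine Units.ext (Matrix.ext_iff_mulVec.2 fun v => ?_)
    obtain ⟨z, rfl⟩ := (fieldSemi σ).map.surjective v
    rw [hΘ, fieldSemi_map, mapI_apply, ← hΘ]
    exact (map_mulVec' σ _ z).symm
  have htw : ∀ i, Θ (AutPSL.tw (mapI σ) h i) = AutPSL.tw (AutPSp.mapG σ) (Θ h) i := by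
    intro i
    induction i with
    | zero => exact map_one Θ
    | succ i ih => rw [AutPSL.tw_succ, AutPSL.tw_succ, map_mul, hΘσ, ih]
  obtain ⟨l, hl⟩ : ∃ l : Fˣ, AutPSL.tw (AutPSp.mapG σ) (Θ h) r = GeneralLinearGroup.scalar (I m) l := by
    rw [← htw]
    rcases hp with e | e
    · exact ⟨1, by rw [e, map_one, map_one]⟩
    · refine ⟨-1, Units.ext (Matrix.ext_iff_mulVec.2 fun v => ?_)⟩
      rw [e, hΘ, negOne_apply]
      simp [GeneralLinearGroup.scalar, ← Matrix.smul_one_eq_diagonal, neg_mulVec]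
  obtain ⟨c, hc⟩ := AutPSp.exists_scalarG_normalise hr hr0 hl
  obtain ⟨A, hA⟩ := AutPSp.langG hr hr0 hc
  -- the semilinear invariance
  have hAσ : ∀ z : I m → F, (A : Matrix (I m) (I m) F) *ᵥ (fun i => σ (z i)) =
      (c : F) • h.1 (fun i => σ (((A : Matrix (I m) (I m) F) *ᵥ z) i)) := by
    intro z
    conv_lhs => rw [← hA]
    simp only [Units.val_mul, ← mulVec_mulVec]
    rw [show ((AutPSp.mapG σ A : GL (I m) F) : Matrix (I m) (I m) F) *ᵥ (fun i => σ (z i)) =
      fun i => σ (((A : Matrix (I m) (I m) F) *ᵥ z) i) from map_mulVec' σ _ z, hΘ]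
    simp [GeneralLinearGroup.scalar, ← Matrix.smul_one_eq_diagonal, smul_mulVec]
  let R : QuadraticForm F (I m → F) := (Qo m F).comp (A : Matrix (I m) (I m) F).mulVecLin
  have hR : ∀ z, R z = Qo m F ((A : Matrix (I m) (I m) F) *ᵥ z) := fun z => rfl
  have hRσ : ∀ z : I m → F, R (fun i => σ (z i)) = c * c * σ (R z) := by
    intro z
    rw [hR, hR, hAσ, QuadraticMap.map_smul, iso_Q, smul_eq_mul]
    congr 1
    exact Qo_map σ.toRingHom _
  let K := fixF σ
  letI : Fintype K := Fintype.ofFinite K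
  let ι : K →+* F := K.subtype
  have hι : ∀ x : F, σ x = x ↔ x ∈ Set.range ι := fun x =>
    ⟨fun hx => ⟨⟨x, mem_fixF.2 hx⟩, rfl⟩, fun ⟨y, hy⟩ => hy ▸ mem_fixF.1 y.2⟩
  have hK : Hyp (Qo m K) := hyp_Qo (fun h0 => hH.two (by rw [← map_ofNat ι 2, h0, map_zero])) hm
  have hvfix : ∀ v : I m → K, (fun i => σ (ι (v i))) = fun i => ι (v i) := fun v =>
    funext fun i => (hι _).2 ⟨_, rfl⟩
  have hRne : ∃ u : I m → K, R (fun i => ι (u i)) ≠ 0 := by
    by_contra! h0
    have : R = 0 := quad_ext (fun i => by rw [← vec_single ι i, h0]; rfl) (fun i j _ => by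
      rw [← vec_single ι i, ← vec_single ι j,
        show ((fun k => ι ((Pi.single i 1 : I m → K) k)) + fun k => ι ((Pi.single j 1 : I m → K) k)) =
          fun k => ι ((Pi.single i 1 + Pi.single j 1 : I m → K) k) from
            funext fun k => (map_add ι _ _).symm, h0]
      rfl)
    have h1 := congrArg (fun S : QuadraticForm F (I m → F) =>
      S (((A⁻¹ : GL (I m) F) : Matrix (I m) (I m) F) *ᵥ (Pi.single (.inl ()) 1))) this
    simp only [hR, mulVec_mulVec, ← Units.val_mul, mul_inv_cancel, Units.val_one, one_mulVec,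
      QuadraticMap.zero_apply] at h1
    simp [Qo_formula] at h1
  obtain ⟨u, hu⟩ := hRne
  set d := R (fun i => ι (u i)) with hd
  have hcd : d = c * c * σ d := by
    have := hRσ fun i => ι (u i)
    rwa [hvfix] at this
  have hRfix : ∀ v : I m → K, R (fun i => ι (v i)) / d ∈ Set.range ι := fun v => (hι _).1 (by
    have h1 := hRσ fun i => ι (v i)
    rw [hvfix] at h1
    rw [map_div₀]
    conv_rhs => rw [h1, hcd]
    rw [mul_div_mul_left _ _ (mul_ne_zero c.ne_zero c.ne_zero)])
  choose R₀f hR₀f using hRfix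
  have hRpolar : ∀ v w : I m → K, ι (polar R₀f v w) =
      polar R (fun i => ι (v i)) (fun i => ι (w i)) / d := by
    intro v w
    simp only [polar, map_sub, hR₀f]
    rw [show ((fun i => ι (v i)) + fun i => ι (w i)) = fun i => ι ((v + w) i) from
      funext fun i => (map_add ι _ _).symm]
    ring
  let R₀ : QuadraticForm K (I m → K) := QuadraticMap.ofPolar R₀f
    (fun a v => ι.injective (by
      rw [smul_eq_mul, map_mul, map_mul, hR₀f, hR₀f,
        show (fun i => ι ((a • v) i)) = ι a • fun i => ι (v i) from funext fun i => map_mul ι _ _,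
        QuadraticMap.map_smul, smul_eq_mul, mul_div_assoc]))
    (fun v v' w => ι.injective (by
      rw [map_add, hRpolar, hRpolar, hRpolar,
        show (fun i => ι ((v + v') i)) = (fun i => ι (v i)) + fun i => ι (v' i) from
          funext fun i => map_add ι _ _, polar_add_left, add_div]))
    (fun a v w => ι.injective (by
      rw [smul_eq_mul, map_mul, hRpolar, hRpolar,
        show (fun i => ι ((a • v) i)) = ι a • fun i => ι (v i) from funext fun i => map_mul ι _ _,
        polar_smul_left, smul_eq_mul, mul_div_assoc]))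
  have hR₀ : ∀ v, ι (R₀ v) = R (fun i => ι (v i)) / d := hR₀f
  have hnd : Nd R₀ := by
    intro x hx
    have h1 : ∀ y : I m → K, polar R (fun i => ι (x i)) (fun i => ι (y i)) = 0 := fun y => by
      have := hRpolar x y
      rw [show polar R₀f x y = 0 from hx y, map_zero, eq_comm, div_eq_zero_iff] at this
      exact this.resolve_right hu
    have h2 : (polarBilin R (fun i => ι (x i))) = 0 := (Pi.basisFun F (I m)).ext fun i => by
      rw [Pi.basisFun_apply, ← vec_single ι]
      exact h1 _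
    have h3 : (A : Matrix (I m) (I m) F) *ᵥ (fun i => ι (x i)) = 0 := hH.good.nd _ fun y => by
      have := LinearMap.congr_fun h2 (((A⁻¹ : GL (I m) F) : Matrix (I m) (I m) F) *ᵥ y)
      simp only [polarBilin_apply_apply, polar, LinearMap.zero_apply, hR, mulVec_add, mulVec_mulVec,
        ← Units.val_mul, mul_inv_cancel, Units.val_one, one_mulVec] at this
      exact this
    funext i
    refine ι.injective ?_
    have := congrArg (fun z => (((A⁻¹ : GL (I m) F) : Matrix (I m) (I m) F)) *ᵥ z) h3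
    simp only [mulVec_mulVec, ← Units.val_mul, inv_mul_cancel, Units.val_one, one_mulVec,
      mulVec_zero] at this
    rw [congrFun this i, Pi.zero_apply, Pi.zero_apply, map_zero]
  obtain ⟨δ, hδ, e, he⟩ := exists_normal_odd m hnd (by
    rw [Module.finrank_pi, Fintype.card_sum, Fintype.card_sum, Fintype.card_unit, Fintype.card_fin]
    ring)
  let cf : I m → K := Sum.elim (fun _ => 1) (Sum.elim (fun _ => 1) fun _ => δ)
  let T : (I m → K) →ₗ[K] (I m → K) := (e : (I m → K) →ₗ[K] I m → K).comp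
    (LinearMap.pi fun i => cf i • LinearMap.proj i)
  have hT : ∀ v, R₀ (T v) = δ * Qo m K v := fun v => by
    show R₀ (e fun i => cf i * v i) = _
    rw [he, Qo_formula, mul_add, Finset.mul_sum]
    simp only [cf, Sum.elim_inl, Sum.elim_inr, one_mul]
    congr 1
    exact Finset.sum_congr rfl fun i _ => by ring
  let TF : Matrix (I m) (I m) F := (LinearMap.toMatrix' T).map ι
  have hTF : ∀ v : I m → K, TF *ᵥ (fun i => ι (v i)) = fun i => ι (T v i) := fun v => by
    funext i
    rw [← LinearMap.toMatrix'_mulVec]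
    exact (RingHom.map_mulVec ι _ v i).symm
  let L : (I m → F) →ₗ[F] (I m → F) := ((A : Matrix (I m) (I m) F) * TF).mulVecLin
  have hLapp : ∀ z, L z = (A : Matrix (I m) (I m) F) *ᵥ (TF *ᵥ z) :=
    fun z => (Matrix.mulVecLin_apply _ z).trans (mulVec_mulVec z _ _).symm
  have hLQ : ∀ z, Qo m F (L z) = d * ι δ * Qo m F z := by
    have : (Qo m F).comp L = (d * ι δ) • Qo m F := by
      have key : ∀ v : I m → K, Qo m F (L fun i => ι (v i)) = d * ι δ * Qo m F fun i => ι (v i) :=
        fun v => by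
          rw [hLapp, hTF, ← hR, Qo_map, mul_assoc, ← map_mul ι, ← hT, hR₀,
            mul_div_cancel₀ _ hu]
      refine quad_ext (fun i => ?_) (fun i j _ => ?_)
      · rw [← vec_single ι]; exact key _
      · rw [← vec_single ι i, ← vec_single ι j,
          show ((fun k => ι ((Pi.single i 1 : I m → K) k)) + fun k => ι ((Pi.single j 1 : I m → K) k)) =
            fun k => ι ((Pi.single i 1 + Pi.single j 1 : I m → K) k) from
              funext fun k => (map_add ι _ _).symm]
        exact key _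
    exact fun z => congrArg (fun S : QuadraticForm F (I m → F) => S z) this
  have hdδ : d * ι δ ≠ 0 := mul_ne_zero hu ((map_ne_zero ι).2 hδ)
  obtain ⟨l, hl0, hl'⟩ := exists_sqrt_mult hH L hdδ hLQ
  have hLinj : Function.Injective L := (injective_iff_map_eq_zero L).2 fun z hz =>
    hH.good.nd z fun y => by
      have h1 : polar (Qo m F) (L z) (L y) = d * ι δ * polar (Qo m F) z y := by
        simp only [polar, ← map_add, hLQ]; ring
      rw [hz, polar_zero_left, eq_comm, mul_eq_zero] at h1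
      exact h1.resolve_left hdδ
  let a : isoG (Qo m F) :=
    ⟨LinearEquiv.ofInjectiveEndo (l⁻¹ • L) fun _ _ e => hLinj (smul_right_injective _ (inv_ne_zero hl0) e),
      fun z => by
        show Qo m F (l⁻¹ • L z) = _
        rw [QuadraticMap.map_smul, hLQ, hl', smul_eq_mul]
        field_simp⟩
  have ha : ∀ z, L z = l • a.1 z := fun z => (smul_inv_smul₀ hl0 _).symm
  -- comparison with the twisted product
  set k := l⁻¹ * ((c : F) * σ l)
  have hLσ : ∀ v : I m → K,
      L (fun i => ι (v i)) = (c : F) • h.1 (fun i => σ (L (fun i => ι (v i)) i)) := fun v => by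
    rw [hLapp, hTF]
    conv_lhs => rw [← hvfix (T v)]
    exact hAσ _
  have hk : ∀ v : I m → K, a.1 (fun i => ι (v i)) = k • (h * mapI σ a).1 (fun i => ι (v i)) := by
    intro v
    have h1 := hLσ v
    rw [ha] at h1
    rw [← inv_smul_smul₀ hl0 (a.1 _), h1,
      show (fun i => σ ((l • a.1 fun i => ι (v i)) i)) = σ l • fun i => σ (a.1 (fun i => ι (v i)) i) from
        funext fun i => map_mul σ _ _, _root_.map_smul, smul_smul, smul_smul]
    show _ = k • h.1 ((mapI σ a).1 fun i => ι (v i))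
    conv_rhs => rw [← hvfix v, mapI_apply]
    congr 1
    simp only [k]; ring
  have hk2 : k * k = 1 := by
    set w : I m → K := Pi.single (.inl ()) 1
    have hQw : Qo m K w = 1 := by simp [w, Qo_formula]
    have h1 := congrArg (Qo m F) (hk w)
    rw [QuadraticMap.map_smul, iso_Q, iso_Q, Qo_map, hQw, map_one, smul_eq_mul, mul_one] at h1
    exact h1.symm
  have hfin : cI hH (h * mapI σ a) = cI hH a := by
    rcases mul_self_eq_one_iff.1 hk2 with e1 | e1
    · congr 1
      exact iso_ext_base ι fun v => by rw [hk, e1, one_smul]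
    · rw [cI_eq_iff]
      refine Or.inr (iso_ext_base ι fun v => ?_)
      show _ = -(a.1 _)
      rw [hk, e1, neg_one_smul, neg_neg]
  refine ⟨a, ?_⟩
  rw [eq_mul_inv_iff_mul_eq, mul_assoc, twist, ← mul_assoc, ← map_mul, hfin]

omit [Fintype K] in
theorem exists_std_of_field (hm : 3 ≤ m) (hH : Hyp (Qo m F)) {x : MulAut (P m F)}
    (hx : Cfsg.IsFieldAutClassPOmega (Cfsg.quadFormOdd m F) x) :
    ∃ (α : MulAut (P m F)) (σ : F ≃+* F), α * x * α⁻¹ = Fld hH σ ∧ orderOf σ = orderOf x := by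
  obtain ⟨α, φ, σ, -, hφ, hst⟩ := hx
  rw [fieldAut_iff hH] at hφ
  subst hφ
  exact ⟨α, σ, hst, by rw [← orderOf_Fld hH hm σ, ← hst, AutPSL.orderOf_conj]⟩

omit [Fintype K] in
theorem coset_conj_iff (hm : 3 ≤ m) (hH : Hyp (Qo m F)) {x δ : MulAut (P m F)}
    (hx : Cfsg.IsFieldAutClassPOmega (Cfsg.quadFormOdd m F) x) {r : ℕ} (hr : r.Prime)
    (hxr : orderOf x = r) (hδ : δ ∈ Cfsg.inndiagPOmegaOdd m F) :
    orderOf (δ * x) = r ↔ Cfsg.IsConjUnder (Cfsg.inndiagPOmegaOdd m F) x (δ * x) := by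
  haveI := inndiag_normal hH
  obtain ⟨α, σ, hst, hord⟩ := exists_std_of_field hm hH hx
  rw [hxr] at hord
  rw [← AutPSp.isConjUnder_conj α, ← AutPSL.orderOf_conj α (δ * x),
    show α * (δ * x) * α⁻¹ = α * δ * α⁻¹ * (α * x * α⁻¹) by group, hst]
  have hd := (inndiag_normal hH).conj_mem δ hδ α
  refine AutPSL.conj_iff_of_std (S := Fld hH σ) (b := 1) (one_mem _) (by group) hd hr ?_ fun d hd' h => ?_
  · rw [orderOf_Fld hH hm, hord]
  · rw [inndiag_eq hH] at hd' ⊢
    obtain ⟨g, rfl⟩ := hd'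
    obtain ⟨a, ha⟩ := exists_conj_of_field hm hH hord hr.pos g h
    exact ⟨_, ⟨a, rfl⟩, ha⟩

end Cfsg.Agent.Lib.AutOmegaOdd
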