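import Cfsg.Agent.Lib.Classical.QuadOmega.General

/-!
Odd dimensional orthogonal groups in odd characteristic: root groups at a hyperbolic pair.
-/

set_option autoImplicit false

namespace Cfsg.Agent.Lib.AutOmegaOdd

open QuadraticMap Cfsg.Agent.Lib.Classical.Quad Cfsg.Agent.Lib.Classical.QuadOmega

universe u v

variable {F : Type u} [Field F] {V : Type v} [AddCommGroup V] [Module F V] {Q : QuadraticForm F V}

/-- The standing hypotheses. -/
structure Hyp (Q : QuadraticForm F V) : Prop where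
  good : Good Q
  two : (2 : F) ≠ 0
  odd : Odd (Module.finrank F V)

/-- `Ω(Q)`. -/
abbrev G (Q : QuadraticForm F V) := ↥(siegelGroup Q)

theorem G_ext {g h : G Q} (H : ∀ v, g.1.1 v = h.1.1 v) : g = h := Subtype.ext (iso_ext H)

theorem G_mul (g h : G Q) (v : V) : (g * h).1.1 v = g.1.1 (h.1.1 v) := rfl

theorem G_one (v : V) : (1 : G Q).1.1 v = v := rfl

theorem G_inv (g : G Q) (v : V) : (g⁻¹).1.1 (g.1.1 v) = v := by
  rw [← G_mul, inv_mul_cancel, G_one]

theorem G_inv' (g : G Q) (v : V) : g.1.1 ((g⁻¹).1.1 v) = v := by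
  rw [← G_mul, mul_inv_cancel, G_one]

theorem G_Q (g : G Q) (v : V) : Q (g.1.1 v) = Q v := iso_Q g.1 v

theorem G_B (g : G Q) (v w : V) : polar Q (g.1.1 v) (g.1.1 w) = polar Q v w := iso_B g.1 v w

/-- A Siegel transformation as an element of `Ω`. -/
noncomputable def sg (Q : QuadraticForm F V) (x u : V) : G Q :=
  ⟨sie Q x u, by
    by_cases h : Q x = 0 ∧ polar Q x u = 0
    · exact sie_mem h.1 h.2
    · rw [sie, dif_neg h]; exact one_mem _⟩

theorem sg_apply {x u : V} (hx : Q x = 0) (hu : polar Q x u = 0) (v : V) :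
    (sg Q x u).1.1 v = v + polar Q v x • u - polar Q v u • x - (Q u * polar Q v x) • x :=
  sie_apply hx hu v

theorem sg_add {x u w : V} (hx : Q x = 0) (hu : polar Q x u = 0) (hw : polar Q x w = 0) :
    sg Q x (u + w) = sg Q x u * sg Q x w := Subtype.ext (sie_add hx hu hw)

theorem sg_zero {x : V} (hx : Q x = 0) : sg Q x 0 = 1 := Subtype.ext (sie_zero hx)

theorem sg_self {x : V} (hx : Q x = 0) (c : F) : sg Q x (c • x) = 1 := Subtype.ext (sie_self hx c)

theorem sg_neg {x u : V} (hx : Q x = 0) (hu : polar Q x u = 0) : sg Q x (-u) = (sg Q x u)⁻¹ :=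
  Subtype.ext (sie_neg hx hu)

theorem sg_smul {x u : V} (hx : Q x = 0) (hu : polar Q x u = 0) (c : F) :
    sg Q (c • x) u = sg Q x (c • u) := Subtype.ext (sie_smul hx hu c)

theorem sg_conj {x u : V} (hx : Q x = 0) (hu : polar Q x u = 0) (g : G Q) :
    g * sg Q x u * g⁻¹ = sg Q (g.1.1 x) (g.1.1 u) := Subtype.ext (sie_conj hx hu g.1)

theorem sg_fix {x u v : V} (hx : Q x = 0) (hu : polar Q x u = 0) (h1 : polar Q v x = 0)
    (h2 : polar Q v u = 0) : (sg Q x u).1.1 v = v := sie_fix hx hu h1 h2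

theorem sg_fix_self {x u : V} (hx : Q x = 0) (hu : polar Q x u = 0) : (sg Q x u).1.1 x = x :=
  sie_fix_self hx hu

theorem sg_swap {x s : V} (hx : Q x = 0) (hs : Q s = 0) (hxs : polar Q x s = 0) :
    sg Q x s = sg Q s (-x) := by
  refine G_ext fun v => ?_
  rw [sg_apply hx hxs, sg_apply hs (by rw [polar_neg_right, polar_comm, hxs, neg_zero]), hs,
    QuadraticMap.map_neg, hx, polar_neg_right]
  module

/-- The root group of a singular vector. -/
noncomputable def U (Q : QuadraticForm F V) (x : V) : Subgroup (G Q) :=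
  Subgroup.closure {g | ∃ u, polar Q x u = 0 ∧ g = sg Q x u}

theorem sg_mem_U (x : V) {u : V} (hu : polar Q x u = 0) : sg Q x u ∈ U Q x :=
  Subgroup.subset_closure ⟨u, hu, rfl⟩

theorem mem_U {x : V} (hx : Q x = 0) {g : G Q} :
    g ∈ U Q x ↔ ∃ u, polar Q x u = 0 ∧ g = sg Q x u := by
  refine ⟨fun h => ?_, fun h => Subgroup.subset_closure h⟩
  induction h using Subgroup.closure_induction with
  | mem z hz => exact hz
  | one => exact ⟨0, polar_zero_right Q x, (sg_zero hx).symm⟩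
  | mul a b _ _ ha hb =>
    obtain ⟨u, hu, rfl⟩ := ha
    obtain ⟨w, hw, rfl⟩ := hb
    exact ⟨u + w, by rw [polar_add_right, hu, hw, add_zero], (sg_add hx hu hw).symm⟩
  | inv a _ ha =>
    obtain ⟨u, hu, rfl⟩ := ha
    exact ⟨-u, by rw [polar_neg_right, hu, neg_zero], (sg_neg hx hu).symm⟩

theorem U_smul {x : V} (hx : Q x = 0) {c : F} (hc : c ≠ 0) : U Q (c • x) = U Q x := by
  have hcx : Q (c • x) = 0 := by rw [QuadraticMap.map_smul, hx, smul_zero]
  ext g
  rw [mem_U hcx, mem_U hx]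
  constructor
  · rintro ⟨u, hu, rfl⟩
    rw [polar_smul_left, smul_eq_mul, mul_eq_zero, or_iff_right hc] at hu
    exact ⟨c • u, by rw [polar_smul_right, hu, smul_zero], sg_smul hx hu c⟩
  · rintro ⟨u, hu, rfl⟩
    refine ⟨c⁻¹ • u, by rw [polar_smul_left, polar_smul_right, hu, smul_zero, smul_zero], ?_⟩
    rw [sg_smul hx (by rw [polar_smul_right, hu, smul_zero]), smul_smul, mul_inv_cancel₀ hc,
      one_smul]

theorem map_conj_U (g : G Q) {x : V} (hx : Q x = 0) :
    (U Q x).map (MulAut.conj g).toMonoidHom = U Q (g.1.1 x) := by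
  ext z
  rw [mem_U (by rw [G_Q, hx]), Subgroup.mem_map]
  constructor
  · rintro ⟨y, hy, rfl⟩
    obtain ⟨u, hu, rfl⟩ := (mem_U hx).1 hy
    exact ⟨g.1.1 u, by rw [G_B, hu], sg_conj hx hu g⟩
  · rintro ⟨u, hu, rfl⟩
    refine ⟨sg Q x ((g⁻¹).1.1 u), sg_mem_U x ?_, ?_⟩
    · rw [← G_B g, G_inv', hu]
    · show g * _ * g⁻¹ = _
      rw [sg_conj hx (by rw [← G_B g, G_inv', hu]), G_inv']

theorem U_comm {x : V} (hx : Q x = 0) {a b : G Q} (ha : a ∈ U Q x) (hb : b ∈ U Q x) :
    a * b = b * a := by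
  obtain ⟨u, hu, rfl⟩ := (mem_U hx).1 ha
  obtain ⟨w, hw, rfl⟩ := (mem_U hx).1 hb
  rw [← sg_add hx hu hw, ← sg_add hx hw hu, add_comm]

theorem neg_absurd [Fintype F] [Finite V] (hH : Hyp Q) (g h : G Q)
    (hgh : ∀ v, g.1.1 v = -(h.1.1 v)) : False := by
  have hm : negOne Q ∈ siegelGroup Q := by
    have e : (g * h⁻¹).1 = negOne Q := iso_ext fun v => by
      show g.1.1 ((h⁻¹).1.1 v) = -v
      rw [hgh, G_inv']
    rw [← e]
    exact (g * h⁻¹).2
  have := ((mem_siegelGroup_iff hH.good hH.two _).1 hm).1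
  rw [dickson_negOne hH.good hH.two, hH.odd.neg_one_pow] at this
  exact absurd this (by decide)

/-- A hyperbolic pair. -/
structure Fr (Q : QuadraticForm F V) (e f : V) : Prop where
  ee : Q e = 0
  ff : Q f = 0
  ef : polar Q e f = 1

variable {e f : V}

theorem Fr.fe (HP : Fr Q e f) : polar Q f e = 1 := by rw [polar_comm, HP.ef]

theorem Fr.e_ne (HP : Fr Q e f) : e ≠ 0 := fun h => by
  have := HP.ef; rw [h, polar_zero_left] at this; exact zero_ne_one this

theorem Fr.f_ne (HP : Fr Q e f) : f ≠ 0 := fun h => by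
  have := HP.ef; rw [h, polar_zero_right] at this; exact zero_ne_one this

theorem Fr.symm (HP : Fr Q e f) : Fr Q f e := ⟨HP.ff, HP.ee, HP.fe⟩

/-- Orthogonal to the pair. -/
structure InW (Q : QuadraticForm F V) (e f x : V) : Prop where
  xe : polar Q x e = 0
  xf : polar Q x f = 0

theorem InW.ex {x : V} (h : InW Q e f x) : polar Q e x = 0 := by rw [polar_comm, h.xe]

theorem InW.fx {x : V} (h : InW Q e f x) : polar Q f x = 0 := by rw [polar_comm, h.xf]

theorem InW.symm {x : V} (h : InW Q e f x) : InW Q f e x := ⟨h.xf, h.xe⟩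

theorem InW.zero (e f : V) : InW Q e f 0 := ⟨polar_zero_left Q e, polar_zero_left Q f⟩

theorem InW.add {x y : V} (hx : InW Q e f x) (hy : InW Q e f y) : InW Q e f (x + y) :=
  ⟨by rw [polar_add_left, hx.xe, hy.xe, add_zero], by rw [polar_add_left, hx.xf, hy.xf, add_zero]⟩

theorem InW.smul {x : V} (hx : InW Q e f x) (c : F) : InW Q e f (c • x) :=
  ⟨by rw [polar_smul_left, hx.xe, smul_zero], by rw [polar_smul_left, hx.xf, smul_zero]⟩

theorem InW.neg {x : V} (hx : InW Q e f x) : InW Q e f (-x) := by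
  simpa using hx.smul (-1)

theorem InW.sub {x y : V} (hx : InW Q e f x) (hy : InW Q e f y) : InW Q e f (x - y) := by
  simpa [sub_eq_add_neg] using hx.add hy.neg

/-- The projection to the complement of the pair. -/
def proj (Q : QuadraticForm F V) (e f z : V) : V := z - polar Q z f • e - polar Q z e • f

theorem proj_mem (HP : Fr Q e f) (z : V) : InW Q e f (proj Q e f z) := by
  constructor <;>
    simp [proj, polar_sub_left, polar_smul_left, polar_self_sing, HP.ee, HP.ff, HP.ef, HP.fe]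

theorem decomp (e f z : V) : z = polar Q z f • e + polar Q z e • f + proj Q e f z := by
  rw [proj]; module

theorem B_proj {x : V} (hx : InW Q e f x) (z : V) : polar Q x (proj Q e f z) = polar Q x z := by
  simp [proj, polar_sub_right, polar_smul_right, hx.xe, hx.xf]

theorem sg_e_fix (HP : Fr Q e f) {u : V} (hu : InW Q e f u) {x : V} (hx : InW Q e f x) :
    (sg Q e u).1.1 x = x - polar Q x u • e := by
  rw [sg_apply HP.ee hu.ex, hx.xe]; simp

theorem sg_e_f (HP : Fr Q e f) {u : V} (hu : InW Q e f u) :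
    (sg Q e u).1.1 f = f + u - Q u • e := by
  rw [sg_apply HP.ee hu.ex, HP.fe, hu.fx]; simp

theorem sg_e_inj (HP : Fr Q e f) {u w : V} (hu : InW Q e f u) (hw : InW Q e f w)
    (h : sg Q e u = sg Q e w) : u = w := by
  have h1 := congrArg (fun g : G Q => g.1.1 f) h
  simp only [sg_e_f HP hu, sg_e_f HP hw] at h1
  have h2 : u - w = (Q u - Q w) • e := by linear_combination (norm := module) h1
  have h3 := congrArg (fun v => polar Q v f) h2
  simp only [polar_sub_left, polar_smul_left, hu.xf, hw.xf, HP.ef, smul_eq_mul, mul_one,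
    sub_self] at h3
  rw [← h3, zero_smul] at h2
  exact sub_eq_zero.1 h2

theorem mem_U_e (HP : Fr Q e f) {g : G Q} :
    g ∈ U Q e ↔ ∃ u, InW Q e f u ∧ g = sg Q e u := by
  refine ⟨fun h => ?_, fun ⟨u, hu, h⟩ => h ▸ sg_mem_U e hu.ex⟩
  obtain ⟨u, hu, rfl⟩ := (mem_U HP.ee).1 h
  refine ⟨proj Q e f u, proj_mem HP u, ?_⟩
  have hu' : polar Q u e = 0 := by rw [polar_comm, hu]
  conv_lhs => rw [decomp (Q := Q) e f u, hu', zero_smul, add_zero]
  rw [sg_add HP.ee (by rw [polar_smul_right, polar_self_sing HP.ee, smul_zero]) (proj_mem HP u).ex,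
    sg_self HP.ee, one_mul]

/-! ### The space `W` -/

theorem W_pair (hH : Hyp Q) (HP : Fr Q e f) :
    ∃ a b, InW Q e f a ∧ InW Q e f b ∧ Fr Q a b := by
  obtain ⟨s, hs0, hs, hse, hsf⟩ := hH.good.exists_sing_perp HP.ee HP.ff HP.ef
  obtain ⟨t, ht, hst, het, hft⟩ := hH.good.exists_partner_perp HP.ee HP.ff HP.ef hs hs0 hse hsf
  exact ⟨s, t, ⟨hse, hsf⟩, ⟨by rw [polar_comm, het], by rw [polar_comm, hft]⟩, ⟨hs, ht, hst⟩⟩

theorem W_partner (hH : Hyp Q) (HP : Fr Q e f) {s : V} (hs : InW Q e f s) (hsQ : Q s = 0)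
    (hs0 : s ≠ 0) : ∃ t, InW Q e f t ∧ Fr Q s t := by
  obtain ⟨t, ht, hst, het, hft⟩ :=
    hH.good.exists_partner_perp HP.ee HP.ff HP.ef hsQ hs0 hs.xe hs.xf
  exact ⟨t, ⟨by rw [polar_comm, het], by rw [polar_comm, hft]⟩, ⟨hsQ, ht, hst⟩⟩

theorem W_nondeg (hH : Hyp Q) (HP : Fr Q e f) {x : V} (hx : InW Q e f x) (hx0 : x ≠ 0) :
    ∃ w, InW Q e f w ∧ polar Q x w = 1 := by
  obtain ⟨w, hw⟩ := hH.good.exists_one hx0
  exact ⟨proj Q e f w, proj_mem HP w, by rw [B_proj hx, hw]⟩

theorem W_nonsing (hH : Hyp Q) (HP : Fr Q e f) {a b : V} (ha : InW Q e f a) (hb : InW Q e f b)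
    (Hab : Fr Q a b) :
    ∃ c, InW Q e f c ∧ Q c ≠ 0 ∧ polar Q c a = 0 ∧ polar Q c b = 0 := by
  obtain ⟨c, hc, hce, hcf, hca, hcb⟩ := hH.good.exists_nonsing_perp HP.ee HP.ff HP.ef Hab.ee Hab.ff
    Hab.ef ha.ex hb.ex ha.fx hb.fx
  exact ⟨c, ⟨hce, hcf⟩, hc, hca, hcb⟩

/-- To prove an additive property on `W` it suffices to treat singular vectors. -/
theorem W_induction (hH : Hyp Q) (HP : Fr Q e f) {p : V → Prop}
    (hadd : ∀ x y, InW Q e f x → InW Q e f y → p x → p y → p (x + y))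
    (hs : ∀ x, InW Q e f x → Q x = 0 → p x) : ∀ x, InW Q e f x → p x := by
  intro v hv
  obtain ⟨a, b, ha, hb, Hab⟩ := W_pair hH HP
  set r := proj Q a b v with hr
  have hrW : InW Q e f r := (hv.sub (ha.smul _)).sub (hb.smul _)
  have hq : Q (r + ((-Q r) • a + b)) = 0 := by
    rw [QuadraticMap.map_add ⇑Q, pair_nonsing Hab.ee Hab.ff Hab.ef, polar_add_right,
      polar_smul_right, (proj_mem Hab v).xe, (proj_mem Hab v).xf]
    simp
  have hv' : v = (r + ((-Q r) • a + b)) + ((Q r + polar Q v b) • a + (polar Q v a - 1) • b) := by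
    rw [hr, proj]; module
  rw [hv']
  refine hadd _ _ (hrW.add ((ha.smul _).add hb)) ((ha.smul _).add (hb.smul _))
    (hs _ (hrW.add ((ha.smul _).add hb)) hq) (hadd _ _ (ha.smul _) (hb.smul _) ?_ ?_)
  · exact hs _ (ha.smul _) (by rw [QuadraticMap.map_smul, Hab.ee, smul_zero])
  · exact hs _ (hb.smul _) (by rw [QuadraticMap.map_smul, Hab.ff, smul_zero])

/-- A common nonperpendicular singular vector. -/
theorem W_both (hH : Hyp Q) (HP : Fr Q e f) {x y : V} (hx : InW Q e f x) (hy : InW Q e f y)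
    (hxQ : Q x = 0) (hyQ : Q y = 0) (hx0 : x ≠ 0) (hy0 : y ≠ 0) (hxy : polar Q x y = 0) :
    ∃ z, InW Q e f z ∧ Q z = 0 ∧ polar Q x z ≠ 0 ∧ polar Q y z ≠ 0 := by
  by_cases hdep : ∃ c : F, y = c • x
  · obtain ⟨c, rfl⟩ := hdep
    obtain ⟨t, ht, Hxt⟩ := W_partner hH HP hx hxQ hx0
    have hc : c ≠ 0 := fun h => hy0 (by rw [h, zero_smul])
    exact ⟨t, ht, Hxt.ff, by rw [Hxt.ef]; exact one_ne_zero,
      by rw [polar_smul_left, Hxt.ef, smul_eq_mul, mul_one]; exact hc⟩
  · push Not at hdep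
    obtain ⟨w, hw1, hw2⟩ := hH.good.exists_both hdep fun c h => by
      rcases eq_or_ne c 0 with rfl | hc
      · exact hx0 (by rw [h, zero_smul])
      · exact hdep c⁻¹ (by rw [h, smul_smul, inv_mul_cancel₀ hc, one_smul])
    set w' := proj Q e f w
    have h1 : polar Q x w' = 1 := by rw [B_proj hx, hw1]
    have h2 : polar Q y w' = 1 := by rw [B_proj hy, hw2]
    refine ⟨w' - Q w' • x, (proj_mem HP w).sub (hx.smul _), ?_, ?_, ?_⟩
    · rw [sub_eq_add_neg, ← neg_smul, QuadraticMap.map_add ⇑Q, QuadraticMap.map_smul, hxQ,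
        polar_smul_right, polar_comm Q w' x, h1]
      simp
    · rw [polar_sub_right, polar_smul_right, polar_self_sing hxQ, h1]; simp
    · rw [polar_sub_right, polar_smul_right, polar_comm Q y x, hxy, h2]; simp

/-- The second difference of a Siegel transformation. -/
theorem sg_second {x u : V} (hx : Q x = 0) (hu : polar Q x u = 0) (c : F) (v : V) :
    (sg Q x (c • u)).1.1 v + (sg Q x (-(c • u))).1.1 v - (v + v) =
      (-(2 * c ^ 2 * Q u * polar Q v x)) • x := by
  have hcu : polar Q x (c • u) = 0 := by rw [polar_smul_right, hu, smul_zero]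
  rw [sg_apply hx hcu, sg_apply hx (by rw [polar_neg_right, hcu, neg_zero]), QuadraticMap.map_neg,
    QuadraticMap.map_smul, polar_neg_right]
  simp only [smul_eq_mul]
  module

theorem exists_sq_sub (hH : Hyp Q) (k : F) : ∃ r s : F, k = r ^ 2 - s ^ 2 :=
  ⟨(k + 1) / 2, (k - 1) / 2, by have := hH.two; field_simp; ring⟩

/-- An additive map of `W` commuting with the Siegel transformations of `W` is a scalar. -/
theorem commutant (hH : Hyp Q) (HP : Fr Q e f) {C : V → V}
    (hCW : ∀ x, InW Q e f x → InW Q e f (C x))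
    (hCadd : ∀ x y, InW Q e f x → InW Q e f y → C (x + y) = C x + C y)
    (hC : ∀ x u, InW Q e f x → InW Q e f u → Q x = 0 → polar Q x u = 0 →
      ∀ v, InW Q e f v → C ((sg Q x u).1.1 v) = (sg Q x u).1.1 (C v)) :
    ∃ l : F, ∀ x, InW Q e f x → C x = l • x := by
  have hgW : ∀ x u, InW Q e f x → InW Q e f u → Q x = 0 → polar Q x u = 0 →
      ∀ v, InW Q e f v → InW Q e f ((sg Q x u).1.1 v) := fun x u hx hu hxQ hxu v hv => by
    rw [sg_apply hxQ hxu]
    exact ((hv.add (hu.smul _)).sub (hx.smul _)).sub (hx.smul _)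
  have hC0 : C 0 = 0 := by
    have := hCadd 0 0 (InW.zero e f) (InW.zero e f)
    rwa [add_zero, left_eq_add] at this
  have hCsub : ∀ x y, InW Q e f x → InW Q e f y → C (x - y) = C x - C y := fun x y hx hy => by
    rw [eq_sub_iff_add_eq, ← hCadd _ _ (hx.sub hy) hy, sub_add_cancel]
  have key : ∀ x y, InW Q e f x → InW Q e f y → Fr Q x y →
      ∀ k : F, C (k • x) = (k * polar Q (C y) x) • x := by
    intro x y hx hy Hxy k
    obtain ⟨u, hu, hu0, hux, huy⟩ := W_nonsing hH HP hx hy Hxy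
    have hxu : polar Q x u = 0 := by rw [polar_comm, hux]
    set A := -(2 * Q u) with hA
    have hA0 : A ≠ 0 := neg_ne_zero.2 (mul_ne_zero hH.two hu0)
    have hsq : ∀ c : F, C ((c ^ 2 * A) • x) = (c ^ 2 * A * polar Q (C y) x) • x := by
      intro c
      have hcu := hu.smul c
      have hxcu : polar Q x (c • u) = 0 := by rw [polar_smul_right, hxu, smul_zero]
      have hxncu : polar Q x (-(c • u)) = 0 := by rw [polar_neg_right, hxcu, neg_zero]
      have h1 := hgW x _ hx hcu Hxy.ee hxcu y hy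
      have h2 := hgW x _ hx hcu.neg Hxy.ee hxncu y hy
      have e1 := congrArg C (sg_second Hxy.ee hxu c y)
      rw [hCsub _ _ (h1.add h2) (hy.add hy), hCadd _ _ h1 h2, hC x _ hx hcu Hxy.ee hxcu y hy,
        hC x _ hx hcu.neg Hxy.ee hxncu y hy, hCadd y y hy hy, sg_second Hxy.ee hxu, Hxy.fe] at e1
      rw [hA]
      convert e1.symm using 2 <;> [skip; ring] 
      congr 1
      ring
    obtain ⟨r, s, hk⟩ := exists_sq_sub hH (k / A)
    have hk' : k = r ^ 2 * A - s ^ 2 * A := by rw [← sub_mul, ← hk, div_mul_cancel₀ _ hA0]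
    rw [hk', sub_smul, hCsub _ _ (hx.smul _) (hx.smul _), hsq, hsq, ← sub_smul]
    congr 1; ring
  obtain ⟨a, b, ha, hb, Hab⟩ := W_pair hH HP
  -- eigenvalues
  have hex : ∀ x, InW Q e f x → Q x = 0 → x ≠ 0 → ∃ l : F, ∀ k : F, C (k • x) = (k * l) • x :=
    fun x hx hxQ hx0 => by
      obtain ⟨y, hy, Hxy⟩ := W_partner hH HP hx hxQ hx0
      exact ⟨_, key x y hx hy Hxy⟩
  choose! lam hlam using hex
  have hnp : ∀ x y, InW Q e f x → InW Q e f y → Q x = 0 → Q y = 0 → polar Q x y ≠ 0 →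
      lam x = lam y := by
    intro x y hx hy hxQ hyQ hne
    have hx0 : x ≠ 0 := fun h => hne (by rw [h, polar_zero_left])
    have hy0 : y ≠ 0 := fun h => hne (by rw [h, polar_zero_right])
    have Hxy : Fr Q x ((polar Q x y)⁻¹ • y) :=
      ⟨hxQ, by rw [QuadraticMap.map_smul, hyQ, smul_zero],
        by rw [polar_smul_right, smul_eq_mul, inv_mul_cancel₀ hne]⟩
    have h1 := key x _ hx (hy.smul _) Hxy 1
    rw [hlam x hx hxQ hx0 1, one_mul, one_mul] at h1
    rw [smul_left_injective F hx0 h1, hlam y hy hyQ hy0, polar_smul_left, polar_comm Q y x,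
      smul_eq_mul]
    field_simp
  have hall : ∀ x, InW Q e f x → Q x = 0 → x ≠ 0 → lam x = lam a := by
    intro x hx hxQ hx0
    by_cases h : polar Q x a = 0
    · obtain ⟨z, hz, hzQ, h1, h2⟩ := W_both hH HP hx ha hxQ Hab.ee hx0 Hab.e_ne h
      rw [hnp x z hx hz hxQ hzQ h1, ← hnp a z ha hz Hab.ee hzQ h2]
    · exact hnp x a hx ha hxQ Hab.ee h
  refine ⟨lam a, W_induction hH HP (fun x y hx hy h1 h2 => by rw [hCadd x y hx hy, h1, h2, smul_add])
    fun x hx hxQ => ?_⟩
  rcases eq_or_ne x 0 with rfl | hx0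
  · rw [hC0, smul_zero]
  · have := hlam x hx hxQ hx0 1
    rwa [one_smul, one_mul, hall x hx hxQ hx0] at this

/-- The centraliser of a root group. -/
theorem centralizer_U [Fintype F] [Finite V] (hH : Hyp Q) (HP : Fr Q e f) {g : G Q}
    (hg : ∀ u, InW Q e f u → g * sg Q e u * g⁻¹ = sg Q e u) : g ∈ U Q e := by
  have hfix : ∀ v, polar Q e v = 0 → (sg Q e v).1.1 (g.1.1 e) = g.1.1 e := by
    intro v hv
    obtain ⟨u, hu, h⟩ := (mem_U_e HP).1 (sg_mem_U e hv)
    rw [h, ← hg u hu, G_mul, G_mul, G_inv, sg_fix_self HP.ee hu.ex]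
  obtain ⟨t, ht⟩ := sie_common_fix hH.good HP.e_ne HP.ee hfix
  have ht0 : t ≠ 0 := fun h => by
    have := G_inv g e
    rw [ht, h, zero_smul, map_zero] at this
    exact HP.e_ne this.symm
  -- the action on `W`
  have hgx : ∀ x, InW Q e f x → g.1.1 x = t⁻¹ • x + polar Q (g.1.1 x) f • e := by
    intro x hx
    have h1 : polar Q (g.1.1 x) e = 0 := by
      have := G_B g x e
      rw [ht, hx.xe, polar_smul_right, smul_eq_mul, mul_eq_zero] at this
      exact this.resolve_left ht0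
    have h0 := hg x hx
    rw [sg_conj HP.ee hx.ex, ht, sg_smul HP.ee (by rw [polar_comm, h1])] at h0
    have hp : InW Q e f (t • proj Q e f (g.1.1 x)) := (proj_mem HP _).smul t
    conv_lhs at h0 => rw [decomp (Q := Q) e f (g.1.1 x), h1, zero_smul, add_zero, smul_add, smul_smul]
    rw [sg_add HP.ee (by rw [polar_smul_right, polar_self_sing HP.ee, smul_zero]) hp.ex,
      sg_self HP.ee, one_mul] at h0
    have h2 := sg_e_inj HP hp hx h0
    conv_lhs => rw [decomp (Q := Q) e f (g.1.1 x), h1, zero_smul, add_zero]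
    rw [add_comm]
    congr 1
    rw [eq_comm, inv_smul_eq_iff₀ ht0, h2]
  obtain ⟨a, b, ha, hb, Hab⟩ := W_pair hH HP
  have ht1 : t⁻¹ * t⁻¹ = 1 := by
    have h := G_B g a b
    rw [hgx a ha, hgx b hb] at h
    simpa [polar_add_left, polar_add_right, polar_smul_left, polar_smul_right, ha.xe, hb.ex,
      polar_self_sing HP.ee, Hab.ef, mul_comm] using h
  set y := proj Q e f (g.1.1 f) with hy
  have hgfe : polar Q (g.1.1 f) e = t⁻¹ := by
    have h := G_B g f e
    rw [HP.fe, ht, polar_smul_right, smul_eq_mul] at h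
    exact eq_inv_of_mul_eq_one_right h
  have hti : t⁻¹ = t := by
    field_simp at ht1 ⊢
    linear_combination ht1
  have hgf : g.1.1 f = polar Q (g.1.1 f) f • e + t • f + y := by
    conv_lhs => rw [decomp (Q := Q) e f (g.1.1 f), hgfe, hti]
  have hyW : InW Q e f y := proj_mem HP _
  set c := polar Q (g.1.1 f) f with hc
  -- compare with `t • sg e (t • y)`
  have hu : InW Q e f (t • y) := hyW.smul t
  have htt : t * t = 1 := by rwa [hti] at ht1
  have hq : c * t + Q y = 0 := by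
    have h := G_Q g f
    rw [HP.ff, hgf] at h
    simp only [QuadraticMap.map_add ⇑Q, QuadraticMap.map_smul, HP.ee, HP.ff, polar_add_left,
      polar_smul_left, polar_smul_right, HP.ef, hyW.ex, hyW.fx] at h
    simpa [mul_comm] using h
  have hagree : ∀ z, g.1.1 z = t • (sg Q e (t • y)).1.1 z := by
    intro z
    conv_lhs => rw [decomp (Q := Q) e f z]
    conv_rhs => rw [decomp (Q := Q) e f z]
    set w := proj Q e f z
    have hw : InW Q e f w := proj_mem HP z
    have hcw : polar Q (g.1.1 w) f = -polar Q w y := by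
      have h := G_B g w f
      rw [hw.xf, hgx w hw, hgf] at h
      simp only [polar_add_left, polar_add_right, polar_smul_left, polar_smul_right, hw.xe, hw.xf,
        hyW.ex, polar_self_sing HP.ee, HP.ef, smul_eq_mul, mul_zero, mul_one, zero_add,
        add_zero] at h
      rw [hti] at h
      have : t * (polar Q w y + polar Q (g.1.1 w) f) = 0 := by linear_combination h
      linear_combination (mul_eq_zero.1 this).resolve_left ht0
    have hgw : g.1.1 w = t • w + (-polar Q w y) • e := by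
      rw [← hcw, ← hti]; exact hgx w hw
    simp only [map_add, map_smul, ht, hgf, hgw, sg_fix_self HP.ee hu.ex,
      sg_e_f HP hu, sg_e_fix HP hu hw, QuadraticMap.map_smul, polar_smul_right, smul_eq_mul]
    have hc' : c = -(Q y) * t := by linear_combination t * hq - c * htt
    rw [hc']
    rcases mul_self_eq_one_iff.1 htt with h | h <;> simp only [h] <;> module
  rcases mul_self_eq_one_iff.1 htt with h | h
  · have : g = sg Q e (t • y) := G_ext fun z => by rw [hagree, h, one_smul]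
    rw [this]
    exact sg_mem_U e hu.ex
  · exact (neg_absurd hH g (sg Q e (t • y)) fun z => by rw [hagree, h, neg_one_smul]).elim

/-- The root group is minimal among subgroups normalised by the Levi subgroup. -/
theorem U_minimal (hH : Hyp Q) (HP : Fr Q e f) {M : Subgroup (G Q)} (hM : M ≤ U Q e)
    (hne : M ≠ ⊥)
    (hnorm : ∀ x u, InW Q e f x → InW Q e f u → Q x = 0 → polar Q x u = 0 → ∀ m ∈ M,
      sg Q x u * m * (sg Q x u)⁻¹ ∈ M) : M = U Q e := by
  let p : V → Prop := fun v => InW Q e f v ∧ sg Q e v ∈ M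
  have padd : ∀ a b, p a → p b → p (a + b) := fun a b ha hb =>
    ⟨ha.1.add hb.1, by rw [sg_add HP.ee ha.1.ex hb.1.ex]; exact mul_mem ha.2 hb.2⟩
  have pneg : ∀ a, p a → p (-a) := fun a ha =>
    ⟨ha.1.neg, by rw [sg_neg HP.ee ha.1.ex]; exact inv_mem ha.2⟩
  have pconj : ∀ x u, InW Q e f x → InW Q e f u → Q x = 0 → polar Q x u = 0 → ∀ v, p v →
      p ((sg Q x u).1.1 v) := by
    intro x u hx hu hxQ hxu v hv
    refine ⟨?_, ?_⟩
    · rw [sg_apply hxQ hxu]
      exact ((hv.1.add (hu.smul _)).sub (hx.smul _)).sub (hx.smul _)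
    · have h := hnorm x u hx hu hxQ hxu _ hv.2
      rwa [sg_conj HP.ee hv.1.ex, sg_fix hxQ hxu hx.ex hu.ex] at h
  have line : ∀ y, InW Q e f y → Q y = 0 → ∀ v, p v → polar Q v y ≠ 0 → ∀ k : F, p (k • y) := by
    intro y hy hyQ v hv hvy k
    have hy0 : y ≠ 0 := fun h => hvy (by rw [h, polar_zero_right])
    obtain ⟨y', hy', Hyy⟩ := W_partner hH HP hy hyQ hy0
    obtain ⟨u, hu, hu0, huy, -⟩ := W_nonsing hH HP hy hy' Hyy
    have hyu : polar Q y u = 0 := by rw [polar_comm, huy]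
    set A := -(2 * Q u * polar Q v y) with hA
    have hA0 : A ≠ 0 := neg_ne_zero.2 (mul_ne_zero (mul_ne_zero hH.two hu0) hvy)
    have hsq : ∀ c : F, p ((c ^ 2 * A) • y) := fun c => by
      have hyc : polar Q y (c • u) = 0 := by rw [polar_smul_right, hyu, smul_zero]
      have h1 := pconj y _ hy (hu.smul c) hyQ hyc v hv
      have h2 := pconj y _ hy (hu.smul c).neg hyQ (by rw [polar_neg_right, hyc, neg_zero]) v hv
      have h3 := padd _ _ (padd _ _ h1 h2) (pneg _ (padd _ _ hv hv))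
      rw [← sub_eq_add_neg, sg_second hyQ hyu] at h3
      rw [hA]
      convert h3 using 2
      ring
    obtain ⟨r, s, hk⟩ := exists_sq_sub hH (k / A)
    rw [show k = r ^ 2 * A + -(s ^ 2 * A) by
      rw [← sub_eq_add_neg, ← sub_mul, ← hk, div_mul_cancel₀ _ hA0], add_smul, neg_smul]
    exact padd _ _ (hsq r) (pneg _ (hsq s))
  obtain ⟨m, hm, hm1⟩ := (M.ne_bot_iff_exists_ne_one).1 hne |> fun ⟨⟨m, hm⟩, h⟩ =>
    (⟨m, hm, fun h' => h (Subtype.ext h')⟩ : ∃ m, m ∈ M ∧ m ≠ 1)
  obtain ⟨v0, hv0, rfl⟩ := (mem_U_e HP).1 (hM hm)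
  have hv00 : v0 ≠ 0 := fun h => hm1 (by rw [h, sg_zero HP.ee])
  obtain ⟨y, hy, hyQ, hy0, hvy⟩ : ∃ y, InW Q e f y ∧ Q y = 0 ∧ y ≠ 0 ∧ polar Q v0 y ≠ 0 := by
    by_contra! h
    obtain ⟨w, hw, h1⟩ := W_nondeg hH HP hv0 hv00
    have h2 : ∀ x, InW Q e f x → polar Q v0 x = 0 :=
      W_induction hH HP (fun a b _ _ ha hb => by rw [polar_add_right, ha, hb, add_zero])
        fun x hx hxQ => by
          rcases eq_or_ne x 0 with rfl | hx0
          · exact polar_zero_right Q v0
          · exact h x hx hxQ hx0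
    rw [h2 w hw] at h1
    exact zero_ne_one h1
  have hpy : ∀ k : F, p (k • y) := line y hy hyQ v0 ⟨hv0, hm⟩ hvy
  have hall : ∀ x, InW Q e f x → Q x = 0 → p x := by
    intro x hx hxQ
    rcases eq_or_ne x 0 with rfl | hx0
    · simpa using hpy 0
    have hp1 : p y := by simpa using hpy 1
    by_cases h : polar Q y x = 0
    · obtain ⟨z, hz, hzQ, h1, h2⟩ := W_both hH HP hy hx hyQ hxQ hy0 hx0 h
      have hpz : p z := by simpa using line z hz hzQ y hp1 h1 1
      simpa using line x hx hxQ z hpz (by rw [polar_comm]; exact h2) 1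
    · simpa using line x hx hxQ y hp1 h 1
  refine le_antisymm hM fun g hg => ?_
  obtain ⟨u, hu, rfl⟩ := (mem_U_e HP).1 hg
  exact (W_induction hH HP (p := p) (fun a b _ _ ha hb => padd a b ha hb) hall u hu).2

/-! ### Semisimilitudes -/

variable (Q) in
/-- A semisimilitude. -/
structure Semi where
  σ : F ≃+* F
  H : F
  H0 : H ≠ 0
  map : V ≃+ V
  map_smul : ∀ (c : F) (v : V), map (c • v) = σ c • map v
  map_Q : ∀ v, Q (map v) = H * σ (Q v)

theorem Semi.map_B (ψ : Semi Q) (x y : V) :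
    polar Q (ψ.map x) (ψ.map y) = ψ.H * ψ.σ (polar Q x y) := by
  simp only [polar, ← map_add, ψ.map_Q, map_sub]
  ring

/-- Conjugation on isometries. -/
def Semi.conjI (ψ : Semi Q) : isoG Q →* isoG Q where
  toFun g :=
    ⟨{ toFun := fun v => ψ.map (g.1 (ψ.map.symm v))
       invFun := fun v => ψ.map (g.1.symm (ψ.map.symm v))
       left_inv := fun v => by simp
       right_inv := fun v => by simp
       map_add' := fun v w => by simp
       map_smul' := fun c v => by
         have : ψ.map.symm (c • v) = ψ.σ.symm c • ψ.map.symm v := by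
           apply ψ.map.injective
           rw [ψ.map.apply_symm_apply, ψ.map_smul, RingEquiv.apply_symm_apply,
             ψ.map.apply_symm_apply]
         simp only [this, _root_.map_smul, ψ.map_smul, RingEquiv.apply_symm_apply,
           RingHom.id_apply] }, fun v => by
      show Q (ψ.map (g.1 (ψ.map.symm v))) = Q v
      rw [ψ.map_Q, iso_Q, ← ψ.map_Q, ψ.map.apply_symm_apply]⟩
  map_one' := iso_ext fun v => ψ.map.apply_symm_apply v
  map_mul' g h := iso_ext fun v => by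
    show ψ.map (g.1 (h.1 (ψ.map.symm v))) = ψ.map (g.1 (ψ.map.symm (ψ.map (h.1 (ψ.map.symm v)))))
    rw [ψ.map.symm_apply_apply]

theorem Semi.conjI_apply (ψ : Semi Q) (g : isoG Q) (v : V) :
    (ψ.conjI g).1 (ψ.map v) = ψ.map (g.1 v) := by
  show ψ.map (g.1 (ψ.map.symm (ψ.map v))) = _
  rw [ψ.map.symm_apply_apply]

theorem Semi.conjI_sie (ψ : Semi Q) {x u : V} (hx : Q x = 0) (hu : polar Q x u = 0) :
    ψ.conjI (sie Q x u) = sie Q (ψ.H⁻¹ • ψ.map x) (ψ.map u) := by
  refine iso_ext fun v => ?_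
  obtain ⟨z, rfl⟩ := ψ.map.surjective v
  rw [ψ.conjI_apply, sie_apply hx hu,
    sie_apply (by rw [QuadraticMap.map_smul, ψ.map_Q, hx, map_zero, mul_zero, smul_zero])
      (by rw [polar_smul_left, ψ.map_B, hu, map_zero, mul_zero, smul_zero])]
  simp only [map_sub, map_add, ψ.map_smul, polar_smul_right, ψ.map_B, ψ.map_Q, map_mul, smul_smul,
    smul_eq_mul]
  have := ψ.H0
  match_scalars <;> field_simp

theorem Semi.conjI_mem (ψ : Semi Q) {g : isoG Q} (hg : g ∈ siegelGroup Q) :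
    ψ.conjI g ∈ siegelGroup Q := by
  have : siegelGroup Q ≤ (siegelGroup Q).comap ψ.conjI := by
    refine (Subgroup.closure_le _).2 ?_
    rintro _ ⟨x, u, hx, hu, rfl⟩
    show ψ.conjI (sie Q x u) ∈ siegelGroup Q
    rw [ψ.conjI_sie hx hu]
    exact sie_mem (by rw [QuadraticMap.map_smul, ψ.map_Q, hx, map_zero, mul_zero, smul_zero])
      (by rw [polar_smul_left, ψ.map_B, hu, map_zero, mul_zero, smul_zero])
  exact this hg

/-- The inverse semisimilitude. -/
noncomputable def Semi.inv (ψ : Semi Q) : Semi Q where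
  σ := ψ.σ.symm
  H := (ψ.σ.symm ψ.H)⁻¹
  H0 := inv_ne_zero ((map_ne_zero ψ.σ.symm).2 ψ.H0)
  map := ψ.map.symm
  map_smul c v := by
    apply ψ.map.injective
    rw [ψ.map.apply_symm_apply, ψ.map_smul, RingEquiv.apply_symm_apply, ψ.map.apply_symm_apply]
  map_Q v := by
    have h := ψ.map_Q (ψ.map.symm v)
    rw [ψ.map.apply_symm_apply] at h
    rw [h, map_mul, RingEquiv.symm_apply_apply, inv_mul_cancel_left₀]
    exact (map_ne_zero ψ.σ.symm).2 ψ.H0

/-- Conjugation by a semisimilitude, on `Ω`. -/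
noncomputable def Semi.conjG (ψ : Semi Q) : MulAut (G Q) where
  toFun g := ⟨ψ.conjI g.1, ψ.conjI_mem g.2⟩
  invFun g := ⟨ψ.inv.conjI g.1, ψ.inv.conjI_mem g.2⟩
  left_inv g := G_ext fun v => by
    show ψ.map.symm (ψ.map (g.1.1 (ψ.map.symm (ψ.map v)))) = _
    rw [ψ.map.symm_apply_apply, ψ.map.symm_apply_apply]
  right_inv g := G_ext fun v => by
    show ψ.map (ψ.map.symm (g.1.1 (ψ.map (ψ.map.symm v)))) = _
    rw [ψ.map.apply_symm_apply, ψ.map.apply_symm_apply]
  map_mul' g h := Subtype.ext (map_mul ψ.conjI g.1 h.1)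

theorem Semi.conjG_apply (ψ : Semi Q) (g : G Q) (v : V) :
    (ψ.conjG g).1.1 (ψ.map v) = ψ.map (g.1.1 v) := ψ.conjI_apply g.1 v

theorem Semi.conjG_sg (ψ : Semi Q) {x u : V} (hx : Q x = 0) (hu : polar Q x u = 0) :
    ψ.conjG (sg Q x u) = sg Q (ψ.H⁻¹ • ψ.map x) (ψ.map u) := Subtype.ext (ψ.conjI_sie hx hu)

end Cfsg.Agent.Lib.AutOmegaOdd
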