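import Cfsg.Agent.Lib.AutOmegaOdd.Std
import Cfsg.Agent.Lib.AutPSL.Facts
import Cfsg.Prelude.Def_KGroupFacts

/-!
The outer automorphism group of `PΩ` in odd dimension and odd characteristic.
-/

set_option autoImplicit false

namespace Cfsg.Agent.Lib.AutOmegaOdd

open QuadraticMap Matrix Cfsg.Agent.Lib.Classical.Quad Cfsg.Agent.Lib.Classical.QuadOmega

universe u

variable {m : ℕ} {F : Type u} [Field F] [Fintype F] (hH : Hyp (Qo m F))

theorem cI_negOne : cI hH (negOne (Qo m F)) = 1 := by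
  rw [cI_apply, show MulAut.conjNormal (negOne (Qo m F)) = (1 : MulAut (G (Qo m F))) from
    MulEquiv.ext fun g => Subtype.ext ?_, map_one]
  show negOne (Qo m F) * g.1 * (negOne (Qo m F))⁻¹ = g.1
  rw [← negOne_mul_comm, mul_inv_cancel_right]

include hH in
/-- A semisimilitude inducing the identity fixes every singular point. -/
theorem fix_points {ψ : Semi (Qo m F)} (hψ : ψ.conjG = 1) {x : I m → F} (hx0 : x ≠ 0)
    (hx : Qo m F x = 0) : ∃ c : F, ψ.map x = c • x := by
  obtain ⟨y, hy, hxy⟩ := hH.good.exists_partner hx0 hx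
  have HP : Fr (Qo m F) x y := ⟨hx, hy, hxy⟩
  refine U_fix hH HP fun r hr => ?_
  obtain ⟨u, hu, rfl⟩ := (mem_U hx).1 hr
  have h := ψ.conjG_apply (sg (Qo m F) x u) x
  rwa [hψ, MulAut.one_apply, sg_fix_self hx hu] at h

theorem D_eq_one_iff {a : MulAut (G (Qo m F))} : D hH a = 1 ↔ a = 1 :=
  map_eq_one_iff _ (D hH).injective

theorem cI_eq_one_iff {h : isoG (Qo m F)} : cI hH h = 1 ↔ h = 1 ∨ h = negOne (Qo m F) := by
  constructor
  · intro hh
    rw [cI_apply, D_eq_one_iff] at hh
    refine eq_one_or_negOne hH.good h fun x hx0 hx => ?_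
    have hs : (stdSemi h 1).conjG = 1 := by
      refine MulEquiv.ext fun g => ?_
      rw [MulAut.one_apply]
      conv_rhs => rw [← MulAut.one_apply (G (Qo m F)) g, ← hh]
      exact G_ext fun v => rfl
    exact fix_points hH hs hx0 hx
  · rintro (rfl | rfl)
    · exact map_one _
    · exact cI_negOne hH

theorem cI_eq_iff {g h : isoG (Qo m F)} :
    cI hH g = cI hH h ↔ g = h ∨ g = negOne (Qo m F) * h := by
  rw [← mul_inv_eq_one, ← map_inv, ← map_mul, cI_eq_one_iff, mul_inv_eq_one, mul_inv_eq_iff_eq_mul]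

theorem pair_coord {i j : Fin m} (hij : i ≠ j) (c : F) :
    Qo m F (Pi.single (.inr (.inl i)) 1 + Pi.single (.inr (.inl j)) c) = 0 := by
  simp [Qo_formula, Pi.single_apply, hij]

include hH in
theorem std_unique (hm : 3 ≤ m) {h : isoG (Qo m F)} {σ : F ≃+* F} (he : cI hH h * Fld hH σ = 1) :
    σ = 1 := by
  rw [← D_stdSemi, D_eq_one_iff] at he
  set i : Fin m := ⟨0, by omega⟩
  set j : Fin m := ⟨1, by omega⟩
  have hij : i ≠ j := by simp [i, j, Fin.ext_iff]
  set a : I m → F := Pi.single (.inr (.inl i)) 1 with ha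
  set b : I m → F := Pi.single (.inr (.inl j)) 1 with hb
  have hab : ∀ c : F, Qo m F (a + c • b) = 0 := fun c => by
    have := pair_coord (F := F) hij c
    rwa [show (Pi.single (.inr (.inl j)) c : I m → F) = c • b by
      funext k; by_cases hk : k = .inr (.inl j) <;> simp [hb, hk]] at this
  have hai : a (.inr (.inl j)) = 0 ∧ b (.inr (.inl i)) = 0 ∧ a (.inr (.inl i)) = 1 ∧
      b (.inr (.inl j)) = 1 := by simp [ha, hb, hij, hij.symm]
  have hne : ∀ c : F, a + c • b ≠ 0 := fun c h0 => by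
    have := congrFun h0 (.inr (.inl i))
    simp [hai] at this
  set ψ := stdSemi h σ
  obtain ⟨ca, hca⟩ := fix_points hH he (fun h0 => hne 0 (by simp [h0]))
    (by simpa using hab 0 : Qo m F a = 0)
  obtain ⟨cb, hcb⟩ := fix_points hH he (x := b) (fun h0 => by
      have := congrFun h0 (.inr (.inl j)); simp [hai] at this) (by
    have := pair_coord (F := F) hij.symm 0
    simpa using this)
  have key : ∀ c : F, σ c * cb = ca * c := fun c => by
    obtain ⟨d, hd⟩ := fix_points hH he (hne c) (hab c)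
    rw [map_add, ψ.map_smul, hca, hcb] at hd
    have h1 := congrFun hd (.inr (.inl i))
    have h2 := congrFun hd (.inr (.inl j))
    simp [hai, show ψ.σ = σ from rfl] at h1 h2
    rw [h2, h1]
  have h1 : cb = ca := by simpa using key 1
  have hca0 : ca ≠ 0 := fun h0 => by
    rw [h0, zero_smul] at hca
    exact hne 0 (by rw [zero_smul, add_zero]; exact ψ.map.map_eq_zero_iff.1 hca)
  refine RingEquiv.ext fun c => mul_right_cancel₀ hca0 ?_
  have h2 := key c
  rw [h1] at h2
  rw [h2, RingAut.one_apply]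
  ring

/-! ### The spinor character -/

open _root_.Classical in
/-- The character of isometries cutting out `±Ω`. -/
noncomputable def chi : isoG (Qo m F) →* ℤˣ :=
  sgnOne (Qo m F) * (if sgnOne (Qo m F) (negOne (Qo m F)) = 1 then (1 : ℤˣ →* ℤˣ)
    else MonoidHom.id _).comp (dickson hH.good)

open _root_.Classical in
theorem chi_apply (h : isoG (Qo m F)) :
    chi hH h = sgnOne (Qo m F) h *
      (if sgnOne (Qo m F) (negOne (Qo m F)) = 1 then 1 else dickson hH.good h) := by
  unfold chi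
  split <;> simp

include hH in
theorem dickson_neg : dickson hH.good (negOne (Qo m F)) = -1 := by
  rw [dickson_negOne hH.good hH.two, hH.odd.neg_one_pow]

theorem chi_negOne : chi hH (negOne (Qo m F)) = 1 := by
  rw [chi_apply, dickson_neg hH]
  rcases Int.units_eq_one_or (sgnOne (Qo m F) (negOne (Qo m F))) with h | h <;> rw [h] <;> decide

theorem chi_of_mem {h : isoG (Qo m F)} (hh : h ∈ siegelGroup (Qo m F)) : chi hH h = 1 := by
  obtain ⟨h1, h2⟩ := (mem_siegelGroup_iff hH.good hH.two h).1 hh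
  simp [chi_apply, h1, h2]

theorem mem_of_chi {h : isoG (Qo m F)} (hh : chi hH h = 1) :
    h ∈ siegelGroup (Qo m F) ∨ negOne (Qo m F) * h ∈ siegelGroup (Qo m F) := by
  have e := mem_siegelGroup_iff hH.good hH.two
  rw [chi_apply] at hh
  rcases Int.units_eq_one_or (dickson hH.good h) with hd | hd
  · refine Or.inl ((e h).2 ⟨hd, ?_⟩)
    simpa [hd] using hh
  · refine Or.inr ((e _).2 ⟨by rw [map_mul, dickson_neg hH, hd]; rfl, ?_⟩)
    rw [map_mul]
    rcases Int.units_eq_one_or (sgnOne (Qo m F) (negOne (Qo m F))) with hs | hs <;>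
      rw [hs] at hh ⊢ <;> simp [hd] at hh ⊢ <;> rw [hh]

theorem chi_surjective : Function.Surjective (chi hH) := by
  intro z
  obtain ⟨h, hh⟩ := invs_surjective hH.good hH.two (1, z)
  obtain ⟨h1, h2⟩ := Prod.ext_iff.1 hh
  change dickson hH.good h = 1 at h1
  change sgnOne (Qo m F) h = z at h2
  exact ⟨h, by simp [chi_apply, h1, h2]⟩

/-- The value at a reflection depends only on the square class. -/
theorem chi_refl_class {u v : I m → F} (hu : Qo m F u ≠ 0) (h : IsSquare (Qo m F v / Qo m F u))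
    (hv : Qo m F v ≠ 0) :
    chi hH (refl (Qo m F) v) = chi hH (refl (Qo m F) u) := by
  obtain ⟨t, ht⟩ := h
  have ht0 : t ≠ 0 := fun h0 => by
    rw [h0, mul_zero, div_eq_zero_iff] at ht; exact ht.elim hv hu
  rw [chi_apply, chi_apply, dickson_refl _ hu, dickson_refl _ hv, ← refl_smul hu ht0,
    sgnOne_refl_class hH.good (u := t • u) (v := v) ?_ ?_]
  · rw [QuadraticMap.map_smul]; exact mul_ne_zero (mul_ne_zero ht0 ht0) hu
  · rw [QuadraticMap.map_smul, smul_eq_mul, ← ht, div_mul_cancel₀ _ hu]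

include hH in
theorem isSquare_map_div (σ : F ≃+* F) (a : F) (ha : a ≠ 0) : IsSquare (σ a / a) := by
  have hF : ringChar F ≠ 2 := fun h => hH.two (by
    haveI := ringChar.charP F
    exact_mod_cast (CharP.cast_eq_zero_iff F (ringChar F) 2).2 (by rw [h]))
  rw [FiniteField.isSquare_iff hF (div_ne_zero ((map_ne_zero σ).2 ha) ha), div_pow, ← map_pow]
  rcases FiniteField.pow_dichotomy hF ha with h | h <;> simp [h]

theorem refl_mapI (σ : F ≃+* F) {w : I m → F} (hw : Qo m F w ≠ 0) :
    mapI σ (refl (Qo m F) w) = refl (Qo m F) (fun i => σ (w i)) := by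
  have hQ : ∀ v : I m → F, Qo m F (fun i => σ (v i)) = σ (Qo m F v) := Qo_map σ.toRingHom
  refine iso_ext fun v => ?_
  obtain ⟨z, rfl⟩ := (fieldSemi σ).map.surjective v
  rw [fieldSemi_map, mapI_apply, refl_apply hw,
    refl_apply (by rw [hQ]; exact (map_ne_zero σ).2 hw)]
  have hp : polar (Qo m F) (fun i => σ (z i)) (fun i => σ (w i)) = σ (polar (Qo m F) z w) := by
    have := (fieldSemi σ).map_B z w
    rw [fieldSemi_map, fieldSemi_map] at this
    rw [this]; exact one_mul _
  rw [hp, hQ]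
  funext i
  simp [map_div₀]

theorem chi_mapI (σ : F ≃+* F) (h : isoG (Qo m F)) : chi hH (mapI σ h) = chi hH h := by
  have hh : h ∈ Subgroup.closure {r | ∃ w, Qo m F w ≠ 0 ∧ r = refl (Qo m F) w} :=
    closure_refl_eq_top hH.good ▸ Subgroup.mem_top h
  have : Subgroup.closure {r | ∃ w, Qo m F w ≠ 0 ∧ r = refl (Qo m F) w} ≤
      MonoidHom.eqLocus ((chi hH).comp (mapI σ)) (chi hH) := by
    refine (Subgroup.closure_le _).2 ?_
    rintro _ ⟨w, hw, rfl⟩
    show chi hH (mapI σ (refl (Qo m F) w)) = _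
    have hQ : Qo m F (fun i => σ (w i)) = σ (Qo m F w) := Qo_map σ.toRingHom w
    rw [refl_mapI σ hw]
    refine chi_refl_class hH hw ?_ (by rw [hQ]; exact (map_ne_zero σ).2 hw)
    rw [hQ]
    exact isSquare_map_div hH σ _ hw
  exact this hh

theorem inn_eq (g : G (Qo m F)) : (MulAut.conj (toP hH g) : MulAut (P m F)) = cI hH g.1 := by
  refine D_ext hH fun z => ?_
  rw [cI_apply, D_apply, MulAut.conj_apply, ← map_inv, ← map_mul, ← map_mul]
  exact congrArg (toP hH) (Subtype.ext rfl)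

theorem inn_le : Cfsg.Inn (P m F) ≤ (cI hH).range := by
  rintro _ ⟨a, rfl⟩
  obtain ⟨g, rfl⟩ := (toP hH).surjective a
  exact ⟨g.1, (inn_eq hH g).symm⟩

theorem cI_mem_inn {h : isoG (Qo m F)} : cI hH h ∈ Cfsg.Inn (P m F) ↔ chi hH h = 1 := by
  constructor
  · rintro ⟨a, ha⟩
    obtain ⟨g, rfl⟩ := (toP hH).surjective a
    rw [inn_eq, eq_comm, cI_eq_iff] at ha
    rcases ha with ha | ha
    · rw [ha]; exact chi_of_mem hH g.2
    · rw [ha, map_mul, chi_negOne, chi_of_mem hH g.2, one_mul]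
  · intro hh
    rcases mem_of_chi hH hh with h1 | h1
    · exact ⟨toP hH ⟨h, h1⟩, inn_eq hH _⟩
    · refine ⟨toP hH ⟨_, h1⟩, (inn_eq hH _).trans ?_⟩
      rw [map_mul, cI_negOne, one_mul]

include hH in
theorem unique (hm : 3 ≤ m) {g h : isoG (Qo m F)} {σ τ : F ≃+* F}
    (he : cI hH g * Fld hH σ = cI hH h * Fld hH τ) : σ = τ ∧ chi hH g = chi hH h := by
  have h1 : cI hH (h⁻¹ * g) * Fld hH (σ * τ⁻¹) = 1 := by
    rw [map_mul, map_inv, map_mul (Fld hH), map_inv (Fld hH)]
    calc (cI hH h)⁻¹ * cI hH g * (Fld hH σ * (Fld hH τ)⁻¹)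
        = (cI hH h)⁻¹ * (cI hH g * Fld hH σ) * (Fld hH τ)⁻¹ := by group
      _ = 1 := by rw [he]; group
  obtain rfl : σ = τ := mul_inv_eq_one.1 (std_unique hH hm h1)
  refine ⟨rfl, ?_⟩
  have h2 := mul_right_cancel he
  rw [cI_eq_iff] at h2
  rcases h2 with h2 | h2
  · rw [h2]
  · rw [h2, map_mul, chi_negOne, one_mul]

open _root_.Classical in
/-- The invariants of an automorphism. -/
noncomputable def outHom (hm : 3 ≤ m) : MulAut (P m F) →* ℤˣ × (F ≃+* F) :=
  MonoidHom.mk' (fun β => (chi hH (std_all_P hH β).choose, (std_all_P hH β).choose_spec.choose))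
    fun α β => by
      set a := (std_all_P hH α).choose
      set s := (std_all_P hH α).choose_spec.choose
      set b := (std_all_P hH β).choose
      set t := (std_all_P hH β).choose_spec.choose
      have ha : α = cI hH a * Fld hH s := (std_all_P hH α).choose_spec.choose_spec
      have hb : β = cI hH b * Fld hH t := (std_all_P hH β).choose_spec.choose_spec
      have hab := (std_all_P hH (α * β)).choose_spec.choose_spec
      have e : α * β = cI hH (a * mapI s b) * Fld hH (s * t) := by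
        rw [ha, hb, map_mul, map_mul, mul_assoc, ← mul_assoc (Fld hH s), twist hH s b]
        simp only [mul_assoc]
      obtain ⟨h1, h2⟩ := unique hH hm (hab.symm.trans e)
      ext
      · show ((chi hH (std_all_P hH (α * β)).choose : ℤˣ) : ℤ) = _
        rw [h2, map_mul, chi_mapI]; rfl
      · show (std_all_P hH (α * β)).choose_spec.choose _ = _
        rw [h1]; rfl

theorem outHom_std (hm : 3 ≤ m) (h : isoG (Qo m F)) (σ : F ≃+* F) :
    outHom hH hm (cI hH h * Fld hH σ) = (chi hH h, σ) := by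
  obtain ⟨h1, h2⟩ := unique hH hm (std_all_P hH (cI hH h * Fld hH σ)).choose_spec.choose_spec.symm
  exact Prod.ext h2 h1

theorem outHom_surjective (hm : 3 ≤ m) : Function.Surjective (outHom hH hm) := fun ⟨z, σ⟩ => by
  obtain ⟨h, rfl⟩ := chi_surjective hH z
  exact ⟨_, outHom_std hH hm h σ⟩

theorem ker_outHom (hm : 3 ≤ m) : (outHom hH hm).ker = Cfsg.Inn (P m F) := by
  ext β
  obtain ⟨h, σ, rfl⟩ := std_all_P hH β
  rw [MonoidHom.mem_ker, outHom_std, Prod.mk_eq_one]
  constructor
  · rintro ⟨h1, rfl⟩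
    rw [map_one, mul_one]
    exact (cI_mem_inn hH).2 h1
  · intro hmem
    obtain ⟨g, hg⟩ := inn_le hH hmem
    obtain ⟨h1, h2⟩ := unique hH hm (g := g) (h := h) (σ := 1) (τ := σ) (by rw [map_one, mul_one]; exact hg)
    refine ⟨?_, h1.symm⟩
    rw [← h2]
    exact (cI_mem_inn hH).1 (hg ▸ hmem)

include hH in
theorem out_equiv (hm : 3 ≤ m) {p f : ℕ} [Fact p.Prime] (hf : 1 ≤ f) (hF : Fintype.card F = p ^ f) :
    Nonempty (Cfsg.Out (P m F) ≃* Multiplicative (ZMod 2 × ZMod f)) := by
  obtain ⟨e2⟩ := AutPSL.ringAut_equiv (F := F) hf hF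
  have e1 : ℤˣ ≃* Multiplicative (ZMod 2) :=
    mulEquivOfPrimeCardEq (p := 2) (by simp [Nat.card_eq_fintype_card])
      (by simp [Nat.card_eq_fintype_card])
  exact ⟨((QuotientGroup.quotientMulEquivOfEq (ker_outHom hH hm).symm).trans
    (QuotientGroup.quotientKerEquivOfSurjective _ (outHom_surjective hH hm))).trans
    ((MulEquiv.prodCongr e1 e2).trans (MulEquiv.prodMultiplicative (ZMod 2) (ZMod f)).symm)⟩

include hH in
theorem inndiag_normal : (Cfsg.inndiagPOmegaOdd m F).Normal := by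
  rw [inndiag_eq hH]
  refine ⟨?_⟩
  rintro _ ⟨h, rfl⟩ β
  obtain ⟨g, σ, rfl⟩ := std_all_P hH β
  refine ⟨g * mapI σ h * g⁻¹, ?_⟩
  rw [map_mul, map_mul, map_inv, _root_.mul_inv_rev, mul_assoc (cI hH g) (Fld hH σ), twist]
  group

theorem orderOf_Fld (hm : 3 ≤ m) (σ : F ≃+* F) : orderOf (Fld hH σ) = orderOf σ := by
  refine orderOf_injective (Fld hH) ?_ σ
  rw [injective_iff_map_eq_one]
  intro τ h
  exact std_unique hH hm (h := 1) (σ := τ) (by rw [map_one, one_mul, h])

end Cfsg.Agent.Lib.AutOmegaOdd
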