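import Cfsg.Agent.Lib.AutOmegaOdd.Basic

/-!
Automorphisms of `Ω` in odd dimension permute the root groups of singular points.
-/

set_option autoImplicit false

namespace Cfsg.Agent.Lib.AutOmegaOdd

open QuadraticMap Cfsg.Agent.Lib.Classical.Quad Cfsg.Agent.Lib.Classical.QuadOmega

universe u v

variable {F : Type u} [Field F] {V : Type v} [AddCommGroup V] [Module F V] {Q : QuadraticForm F V}
  {e f : V}

theorem map_map_mul {X : Type*} [Group X] (K : Subgroup X) (a b : MulAut X) :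
    (K.map b.toMonoidHom).map a.toMonoidHom = K.map (a * b).toMonoidHom := by
  rw [Subgroup.map_map]; rfl

theorem map_one_aut {X : Type*} [Group X] (K : Subgroup X) :
    K.map (1 : MulAut X).toMonoidHom = K := by
  ext z; simp

theorem inv_fix {X : Type*} [Group X] {K : Subgroup X} {β : MulAut X}
    (h : K.map β.toMonoidHom = K) : K.map (β⁻¹).toMonoidHom = K := by
  conv_lhs => rw [← h, map_map_mul, inv_mul_cancel, map_one_aut]

attribute [local instance] Cfsg.Agent.Lib.Classical.QuadOmega.ptAction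

/-- The stabiliser of a singular point. -/
noncomputable def St (Q : QuadraticForm F V) {x : V} (hx0 : x ≠ 0) (hx : Q x = 0) : Subgroup (G Q) :=
  MulAction.stabilizer (G Q) (pt hx0 hx)

theorem mem_St {x : V} (hx0 : x ≠ 0) (hx : Q x = 0) {g : G Q} :
    g ∈ St Q hx0 hx ↔ ∃ c : F, c • x = g.1.1 x := by
  rw [St, MulAction.mem_stabilizer_iff, smul_pt, pt_eq_iff]

theorem St_isCoatom (hH : Hyp Q) {x : V} (hx0 : x ≠ 0) (hx : Q x = 0) :
    IsCoatom (St Q hx0 hx) := by
  have := pretransitive hH.good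
  have := preprimitive hH.good
  obtain ⟨y, hy, hxy⟩ := hH.good.exists_partner hx0 hx
  have hy0 : y ≠ 0 := fun h => by rw [h, polar_zero_right] at hxy; exact zero_ne_one hxy
  have : Nontrivial (Pt Q) := ⟨⟨pt hx0 hx, pt hy0 hy, fun h => by
    obtain ⟨c, hc⟩ := (pt_eq_iff hx0 hx hy0 hy).1 h
    rw [← hc, polar_smul_left, polar_self_sing hy, smul_zero] at hxy
    exact zero_ne_one hxy⟩⟩
  exact MulAction.IsPreprimitive.isCoatom_stabilizer_of_isPreprimitive (G := G Q) (pt hx0 hx)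

theorem U_le_St (HP : Fr Q e f) : U Q e ≤ St Q HP.e_ne HP.ee := fun g hg => by
  obtain ⟨u, hu, rfl⟩ := (mem_U HP.ee).1 hg
  exact (mem_St _ _).2 ⟨1, by rw [one_smul, sg_fix_self HP.ee hu]⟩

theorem St_normalises (HP : Fr Q e f) {g : G Q} (hg : g ∈ St Q HP.e_ne HP.ee) {r : G Q}
    (hr : r ∈ U Q e) : g * r * g⁻¹ ∈ U Q e := by
  obtain ⟨c, hc⟩ := (mem_St _ _).1 hg
  have hc0 : c ≠ 0 := fun h => by
    rw [h, zero_smul] at hc
    exact HP.e_ne (g.1.1.map_eq_zero_iff.1 hc.symm)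
  rw [← U_smul HP.ee hc0, hc, ← map_conj_U g HP.ee]
  exact ⟨r, hr, rfl⟩

theorem U_fix (hH : Hyp Q) (HP : Fr Q e f) {v : V} (hv : ∀ r ∈ U Q e, r.1.1 v = v) :
    ∃ c : F, v = c • e :=
  sie_common_fix hH.good HP.e_ne HP.ee fun _ hu => hv _ (sg_mem_U e hu)

theorem U_ne_bot (hH : Hyp Q) (HP : Fr Q e f) : U Q e ≠ ⊥ := by
  obtain ⟨a, b, ha, -, Hab⟩ := W_pair hH HP
  intro h
  have h1 : sg Q e a = 1 := Subgroup.mem_bot.1 (h ▸ sg_mem_U e ha.ex)
  rw [← sg_zero HP.ee] at h1
  exact Hab.e_ne (sg_e_inj HP ha (InW.zero e f) h1)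

theorem exists_nonsing_perp_ts [Finite V] (hH : Hyp Q) {T : Submodule F V}
    (hT : ∀ a ∈ T, ∀ b ∈ T, polar Q a b = 0) :
    ∃ u, Q u ≠ 0 ∧ ∀ t ∈ T, polar Q u t = 0 := by
  have := Module.Finite.of_finite (R := F) (M := V)
  by_contra! hno
  let φ : V →ₗ[F] Module.Dual F T := (LinearMap.lcomp F F T.subtype).comp (polarBilin Q)
  have hK0 : ∀ v ∈ LinearMap.ker φ, Q v = 0 := fun v hv => by
    by_contra hne
    obtain ⟨t, ht, h⟩ := hno v hne
    exact h (LinearMap.congr_fun (LinearMap.mem_ker.1 hv) ⟨t, ht⟩)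
  have hnd : Nd Q := hH.good.nd
  have h1 := hnd.two_mul_finrank_le (LinearMap.ker φ) fun a ha b hb => by
    rw [polar, hK0 _ (add_mem ha hb), hK0 a ha, hK0 b hb]; simp
  have h2 := φ.finrank_range_add_finrank_ker
  have h3 := Submodule.finrank_le (LinearMap.range φ)
  rw [Subspace.dual_finrank_eq] at h3
  have h4 := hnd.two_mul_finrank_le T hT
  obtain ⟨k, hk⟩ := hH.odd
  omega

/-- The vectors fixed by a subgroup and orthogonal to all vectors fixed by it. -/
noncomputable def radFix (R : Subgroup (G Q)) : Submodule F V where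
  carrier := {v | (∀ r ∈ R, r.1.1 v = v) ∧
    ∀ w, (∀ r ∈ R, r.1.1 w = w) → polar Q v w = 0}
  zero_mem' := ⟨fun r _ => map_zero _, fun w _ => polar_zero_left Q w⟩
  add_mem' := by
    rintro a b ⟨ha, ha'⟩ ⟨hb, hb'⟩
    exact ⟨fun r hr => by rw [map_add, ha r hr, hb r hr],
      fun w hw => by rw [polar_add_left, ha' w hw, hb' w hw, add_zero]⟩
  smul_mem' := by
    rintro c a ⟨ha, ha'⟩
    exact ⟨fun r hr => by rw [map_smul, ha r hr],
      fun w hw => by rw [polar_smul_left, ha' w hw, smul_zero]⟩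

theorem mem_radFix {R : Subgroup (G Q)} {v : V} : v ∈ radFix R ↔ (∀ r ∈ R, r.1.1 v = v) ∧
    ∀ w, (∀ r ∈ R, r.1.1 w = w) → polar Q v w = 0 := Iff.rfl

variable [Fintype F] [Finite V]

instance finite_G : Finite (G Q) :=
  Finite.of_injective (fun g : G Q => fun v => g.1.1 v) fun _ _ h => G_ext (congrFun h)

theorem isPGroup_U (HP : Fr Q e f) {p : ℕ} [Fact p.Prime] [CharP F p] : IsPGroup p (U Q e) := by
  rintro ⟨g, hg⟩
  obtain ⟨u, hu, rfl⟩ := (mem_U HP.ee).1 hg
  refine ⟨1, Subtype.ext ?_⟩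
  have hn : ∀ n : ℕ, (sg Q e u) ^ n = sg Q e ((n : F) • u) := by
    intro n
    induction n with
    | zero => rw [pow_zero, Nat.cast_zero, zero_smul, sg_zero HP.ee]
    | succ n ih =>
      rw [pow_succ, ih, ← sg_add HP.ee (by rw [polar_smul_right, hu, smul_zero]) hu, Nat.cast_succ,
        add_smul, one_smul]
  rw [SubmonoidClass.coe_pow, pow_one, hn, CharP.cast_eq_zero, zero_smul, sg_zero HP.ee]
  rfl

/-- A `p`-group fixes a nonzero vector in each nonzero invariant additive subgroup. -/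
theorem exists_fix {p : ℕ} [Fact p.Prime] [CharP F p] (K : Subgroup (G Q)) (hK : IsPGroup p K)
    (S : AddSubgroup V) (hS : ∀ k ∈ K, ∀ v ∈ S, k.1.1 v ∈ S) (hne : S ≠ ⊥) :
    ∃ v ∈ S, v ≠ 0 ∧ ∀ k ∈ K, k.1.1 v = v := by
  classical
  have : Fintype V := Fintype.ofFinite V
  letI act : MulAction K S :=
    { smul := fun k v => ⟨k.1.1.1 v.1, hS k.1 k.2 v.1 v.2⟩
      one_smul := fun v => Subtype.ext rfl
      mul_smul := fun a b v => Subtype.ext rfl }
  obtain ⟨⟨v0, hv0⟩, hv0'⟩ := (AddSubgroup.ne_bot_iff_exists_ne_zero).1 hne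
  have hord : addOrderOf (⟨v0, hv0⟩ : S) = p := addOrderOf_eq_prime (Subtype.ext (by
    show p • v0 = 0
    rw [← Nat.cast_smul_eq_nsmul F, CharP.cast_eq_zero, zero_smul])) hv0'
  have hdvd : p ∣ Nat.card S := hord ▸ addOrderOf_dvd_natCard _
  have h0 : (0 : S) ∈ MulAction.fixedPoints K S := fun k => Subtype.ext (map_zero _)
  obtain ⟨w, hw, hw0⟩ := hK.exists_fixed_point_of_prime_dvd_card_of_fixed_point S hdvd h0
  refine ⟨w.1, w.2, fun h => hw0 (Subtype.ext h.symm), fun k hk => ?_⟩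
  exact congrArg Subtype.val (hw ⟨k, hk⟩)

/-- The fixed points of a Sylow subgroup containing the root group. -/
theorem sylow_fix {p : ℕ} [Fact p.Prime] [CharP F p] (hH : Hyp Q) (HP : Fr Q e f)
    (K : Sylow p (G Q)) (hK : U Q e ≤ K) : ∀ g ∈ K, g.1.1 e = e := by
  obtain ⟨v, -, hv0, hv⟩ := exists_fix (Q := Q) (K : Subgroup (G Q)) K.2 ⊤ (fun _ _ _ _ => trivial)
    (fun h => HP.e_ne ((AddSubgroup.eq_bot_iff_forall _).1 h e trivial))
  obtain ⟨c, hc⟩ := U_fix hH HP (v := v) fun r hr => hv r (hK hr)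
  have hc0 : c ≠ 0 := fun h => hv0 (by rw [hc, h, zero_smul])
  intro g hg
  have := hv g hg
  rw [hc, map_smul] at this
  exact smul_right_injective V hc0 this

/-- An automorphism fixing a Sylow subgroup through `U e` fixes `U e`. -/
theorem map_U_of_sylow {p : ℕ} [Fact p.Prime] [CharP F p] (hH : Hyp Q) (HP : Fr Q e f)
    (K : Sylow p (G Q)) (hK : U Q e ≤ K) (β : MulAut (G Q))
    (hβ : (K : Subgroup (G Q)).map β.toMonoidHom = K) :
    (U Q e).map β.toMonoidHom = U Q e := by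
  set R := (U Q e).map β.toMonoidHom with hR
  set N' := (St Q HP.e_ne HP.ee).map β.toMonoidHom with hN'
  have hKfix := sylow_fix hH HP K hK
  have hKN : (K : Subgroup (G Q)) ≤ N' := by
    rw [← hβ]
    exact Subgroup.map_mono fun g hg => (mem_St _ _).2 ⟨1, by rw [one_smul, hKfix g hg]⟩
  have hRK : R ≤ K := hβ ▸ Subgroup.map_mono hK
  have hRnorm : ∀ n ∈ N', ∀ r ∈ R, n * r * n⁻¹ ∈ R := by
    rintro _ ⟨n, hn, rfl⟩ _ ⟨r, hr, rfl⟩
    exact ⟨n * r * n⁻¹, St_normalises HP hn hr, by simp⟩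
  have hRC : ∀ g : G Q, (∀ r ∈ R, Commute g r) → g ∈ R := by
    intro g hg
    refine ⟨β.symm g, centralizer_U hH HP fun u hu => ?_, β.apply_symm_apply g⟩
    rw [mul_inv_eq_iff_eq_mul]
    apply β.injective
    rw [map_mul, map_mul, β.apply_symm_apply]
    exact hg _ ⟨_, sg_mem_U e hu.ex, rfl⟩
  have hmin : ∀ M : Subgroup (G Q), M ≤ R → M ≠ ⊥ → (∀ n ∈ N', ∀ z ∈ M, n * z * n⁻¹ ∈ M) →
      M = R := by
    intro M hM hne hMn
    set M0 := M.comap β.toMonoidHom
    have hmap : M0.map β.toMonoidHom = M := Subgroup.map_comap_eq_self_of_surjective β.surjective M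
    have h1 : M0 = U Q e := by
      refine U_minimal hH HP ?_ ?_ ?_
      · intro z hz
        obtain ⟨y, hy, he⟩ := hM hz
        rwa [β.injective he] at hy
      · intro h; rw [h, Subgroup.map_bot] at hmap; exact hne hmap.symm
      · intro x u hx hu hxQ hxu z hz
        show β (sg Q x u * z * (sg Q x u)⁻¹) ∈ M
        rw [map_mul, map_mul, map_inv]
        refine hMn _ ⟨_, (mem_St _ _).2 ⟨1, ?_⟩, rfl⟩ _ hz
        rw [one_smul, sg_fix hxQ hxu hx.ex hu.ex]
    rw [← hmap, h1]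
  have hRne : R ≠ ⊥ := fun h => U_ne_bot hH HP ((Subgroup.map_eq_bot_iff_of_injective _ β.injective).1 h)
  set T := radFix R with hT
  have hTts : ∀ a ∈ T, ∀ b ∈ T, polar Q a b = 0 := fun a ha b hb => ha.2 b hb.1
  have hTQ : ∀ a ∈ T, Q a = 0 := fun a ha => by
    have h := hTts a ha a ha
    rw [polar_self, nsmul_eq_mul] at h
    exact (mul_eq_zero.1 h).resolve_left (by exact_mod_cast hH.two)
  have hfixN : ∀ n ∈ N', ∀ v, (∀ r ∈ R, r.1.1 v = v) → ∀ r ∈ R, r.1.1 (n.1.1 v) = n.1.1 v := by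
    intro n hn v hv r hr
    have h1 := hv _ (hRnorm n⁻¹ (inv_mem hn) r hr)
    rw [inv_inv, G_mul, G_mul] at h1
    have := congrArg n.1.1 h1
    rwa [G_inv'] at this
  have hTN : ∀ n ∈ N', ∀ v ∈ T, n.1.1 v ∈ T := by
    intro n hn v hv
    refine ⟨hfixN n hn v hv.1, fun w hw => ?_⟩
    rw [← G_inv' n w, G_B]
    exact hv.2 _ (hfixN _ (inv_mem hn) w hw)
  have heR : ∀ r ∈ R, r.1.1 e = e := fun r hr => hKfix r (hRK hr)
  have heT : e ∈ T := by
    let Sp : AddSubgroup V :=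
      { carrier := {v | ∀ w, (∀ r ∈ R, r.1.1 w = w) → polar Q v w = 0}
        zero_mem' := fun w _ => polar_zero_left Q w
        add_mem' := fun {a b} ha hb w hw => by rw [polar_add_left, ha w hw, hb w hw, add_zero]
        neg_mem' := fun {a} ha w hw => by rw [polar_neg_left, ha w hw, neg_zero] }
    obtain ⟨r0, hr0⟩ := (Subgroup.ne_bot_iff_exists_ne_one).1 hRne
    obtain ⟨v, hv, hv0, hvK⟩ := exists_fix (Q := Q) (K : Subgroup (G Q)) K.2 Sp
      (fun k hk v hv w hw => by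
        rw [← G_inv' k w, G_B]
        exact hv _ (hfixN _ (inv_mem (hKN hk)) w hw))
      (by
        intro hbot
        refine hr0 (Subtype.ext (G_ext fun z => sub_eq_zero.1 ?_))
        refine (AddSubgroup.eq_bot_iff_forall _).1 hbot _ (fun w hw => ?_)
        show polar Q (r0.1.1.1 z - z) w = 0
        rw [polar_sub_left]
        nth_rewrite 1 [← hw r0.1 r0.2]
        rw [G_B, sub_self])
    obtain ⟨c, hc⟩ := U_fix hH HP (v := v) fun r hr => hvK r (hK hr)
    have hc0 : c ≠ 0 := fun h => hv0 (by rw [hc, h, zero_smul])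
    refine ⟨heR, fun w hw => ?_⟩
    have := hv w hw
    rw [hc, polar_smul_left, smul_eq_mul, mul_eq_zero] at this
    exact this.resolve_left hc0
  let H : Subgroup (G Q) :=
    { carrier := {g | ∀ v, v ∈ T ↔ g.1.1 v ∈ T}
      one_mem' := fun v => Iff.rfl
      mul_mem' := fun {a b} ha hb v => (hb v).trans (ha _)
      inv_mem' := fun {a} ha v => by rw [ha ((a⁻¹).1.1 v), G_inv'] }
  have hNH : N' ≤ H := fun n hn v => ⟨hTN n hn v, fun h => by
    have := hTN _ (inv_mem hn) _ h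
    rwa [G_inv] at this⟩
  have hNeq : N' = H := by
    have hco : IsCoatom N' := ((MulEquiv.mapSubgroup β).isCoatom_iff _).2 (St_isCoatom hH _ _)
    rcases hNH.eq_or_lt with h | h
    · exact h
    · exfalso
      have htop := hco.2 H h
      obtain ⟨t, ht, htf⟩ := hH.good.exists_map_sing HP.e_ne HP.f_ne HP.ee HP.ff
      have := ((htop ▸ Subgroup.mem_top (⟨t, ht⟩ : G Q) : (⟨t, ht⟩ : G Q) ∈ H) e).1 heT
      rw [show (⟨t, ht⟩ : G Q).1.1 e = f from htf] at this
      have h1 := hTts e heT f this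
      rw [HP.ef] at h1
      exact one_ne_zero h1
  by_cases hcase : ∀ v ∈ T, ∃ c : F, v = c • e
  · have hNle : St Q HP.e_ne HP.ee ≤ N' := by
      rw [hNeq]
      intro g hg v
      obtain ⟨c, hc⟩ := (mem_St _ _).1 hg
      have hc0 : c ≠ 0 := fun h => by
        rw [h, zero_smul] at hc; exact HP.e_ne (g.1.1.map_eq_zero_iff.1 hc.symm)
      constructor
      · intro hv
        obtain ⟨d, rfl⟩ := hcase v hv
        rw [map_smul, ← hc, smul_smul]
        exact T.smul_mem _ heT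
      · intro hv
        obtain ⟨d, hd⟩ := hcase _ hv
        have : v = (d * c⁻¹) • e := g.1.1.injective (by
          rw [hd, map_smul, ← hc, smul_smul, inv_mul_cancel_right₀ hc0])
        rw [this]
        exact T.smul_mem _ heT
    by_cases hint : R ⊓ U Q e = ⊥
    · exfalso
      refine hRne (eq_bot_iff.2 (hint ▸ le_inf le_rfl fun r hr => ?_))
      refine centralizer_U hH HP fun u hu => ?_
      have hs : sg Q e u ∈ U Q e := sg_mem_U e hu.ex
      have hmem : r * sg Q e u * r⁻¹ * (sg Q e u)⁻¹ ∈ R ⊓ U Q e := by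
        refine Subgroup.mem_inf.2 ⟨?_, mul_mem (St_normalises HP ((mem_St _ _).2 ⟨1, by rw [one_smul, heR r hr]⟩) hs)
          (inv_mem hs)⟩
        rw [show r * sg Q e u * r⁻¹ * (sg Q e u)⁻¹ = r * (sg Q e u * r⁻¹ * (sg Q e u)⁻¹) by group]
        exact mul_mem hr (hRnorm _ (hNle (U_le_St HP hs)) _ (inv_mem hr))
      rw [hint, Subgroup.mem_bot] at hmem
      exact mul_inv_eq_one.1 hmem
    · have hle : N' ≤ St Q HP.e_ne HP.ee := by
        intro n hn
        obtain ⟨c, hc⟩ := hcase _ (hTN n hn e heT)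
        exact (mem_St _ _).2 ⟨c, hc.symm⟩
      have := hmin (R ⊓ U Q e) inf_le_left hint fun n hn z hz =>
        ⟨hRnorm n hn z hz.1, St_normalises HP (hle hn) hz.2⟩
      refine Subgroup.eq_of_le_of_card_ge (this ▸ inf_le_right) ?_
      rw [hR, Subgroup.card_map_of_injective β.injective]
  · exfalso
    push Not at hcase
    obtain ⟨s, hs, hse⟩ := hcase
    let Z : Subgroup (G Q) := Subgroup.closure {g | ∃ a ∈ T, ∃ b ∈ T, g = sg Q a b}
    have hZN : ∀ n ∈ N', ∀ z ∈ Z, n * z * n⁻¹ ∈ Z := by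
      intro n hn z hz
      have : Z ≤ Z.comap (MulAut.conj n).toMonoidHom := by
        refine (Subgroup.closure_le _).2 ?_
        rintro _ ⟨a, ha, b, hb, rfl⟩
        exact Subgroup.subset_closure ⟨_, hTN n hn a ha, _, hTN n hn b hb,
          sg_conj (hTQ a ha) (hTts a ha b hb) n⟩
      exact this hz
    let Fx : Subgroup (G Q) :=
      { carrier := {g | ∀ v, (∀ t ∈ T, polar Q v t = 0) → g.1.1 v = v}
        one_mem' := fun v _ => rfl
        mul_mem' := fun {a b} ha hb v hv => by rw [G_mul, hb v hv, ha v hv]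
        inv_mem' := fun {a} ha v hv => by
          conv_lhs => rw [← ha v hv]
          rw [G_inv] }
    have hZfix : Z ≤ Fx := by
      refine (Subgroup.closure_le _).2 ?_
      rintro _ ⟨a, ha, b, hb, rfl⟩ v hv
      exact sg_fix (hTQ a ha) (hTts a ha b hb) (hv a ha) (hv b hb)
    have hZle : Z ≤ N' := by
      rw [hNeq]
      intro z hz v
      have hT' : ∀ t ∈ T, z.1.1 t = t := fun t ht => hZfix hz t (hTts t ht)
      refine ⟨fun hv => by rwa [hT' v hv], fun hv => ?_⟩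
      have := hT' _ hv
      rw [z.1.1.injective this] at hv
      exact hv
    have hse1 : sg Q e s ≠ 1 := by
      intro h
      refine hse (polar Q s f) ?_
      have h1 := congrArg (fun g : G Q => g.1.1 f) h
      simp only [sg_apply HP.ee (hTts e heT s hs), HP.fe, one_smul, G_one, hTQ s hs, zero_mul,
        zero_smul, sub_zero] at h1
      rw [polar_comm Q f s] at h1
      linear_combination (norm := module) h1
    have hRZ : R ≤ Z := by
      by_cases hint : R ⊓ Z = ⊥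
      · exfalso
        refine hse1 (Subgroup.mem_bot.1 (hint ▸ ?_))
        have hzs : sg Q e s ∈ Z := Subgroup.subset_closure ⟨e, heT, s, hs, rfl⟩
        refine ⟨hRC _ fun r hr => ?_, hzs⟩
        have hmem : sg Q e s * r * (sg Q e s)⁻¹ * r⁻¹ ∈ R ⊓ Z := by
          refine Subgroup.mem_inf.2 ⟨mul_mem (hRnorm _ (hZle hzs) r hr) (inv_mem hr), ?_⟩
          rw [show sg Q e s * r * (sg Q e s)⁻¹ * r⁻¹ = sg Q e s * (r * (sg Q e s)⁻¹ * r⁻¹) by group]
          exact mul_mem hzs (hZN r (hKN (hRK hr)) _ (inv_mem hzs))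
        rw [hint, Subgroup.mem_bot] at hmem
        exact mul_inv_eq_iff_eq_mul.1 (mul_inv_eq_one.1 hmem)
      · have := hmin (R ⊓ Z) inf_le_left hint fun n hn z hz => ⟨hRnorm n hn z hz.1, hZN n hn z hz.2⟩
        rw [← this]; exact inf_le_right
    obtain ⟨u, hu0, hu⟩ := exists_nonsing_perp_ts hH hTts
    have heu : polar Q e u = 0 := by rw [polar_comm, hu e heT]
    have hh : sg Q e u ∈ R := by
      refine hRC _ fun r hr => ?_
      have hr' : r ∈ Subgroup.centralizer {sg Q e u} := by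
        refine ((Subgroup.closure_le _).2 ?_ : Z ≤ _) (hRZ hr)
        rintro _ ⟨a, ha, b, hb, rfl⟩
        have h1 := sg_conj (hTQ a ha) (hTts a ha b hb) (sg Q e u)
        rw [sg_fix HP.ee heu (hTts a ha e heT) (by rw [polar_comm, hu a ha]),
          sg_fix HP.ee heu (hTts b hb e heT) (by rw [polar_comm, hu b hb])] at h1
        exact Subgroup.mem_centralizer_singleton_iff.2 (mul_inv_eq_iff_eq_mul.1 h1).symm
      exact (Subgroup.mem_centralizer_singleton_iff.1 hr').symm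
    have h1 := hZfix (hRZ hh) u hu
    rw [sg_apply HP.ee heu, hu e heT, polar_self, mul_zero, zero_smul, zero_smul, sub_zero, add_zero,
      sub_eq_self, smul_eq_zero, or_iff_left HP.e_ne, nsmul_eq_mul, mul_eq_zero,
      or_iff_left hu0] at h1
    exact hH.two (by exact_mod_cast h1)

/-- Automorphisms permute the root groups. -/
theorem map_U (hH : Hyp Q) {x : V} (hx0 : x ≠ 0) (hx : Q x = 0) (β : MulAut (G Q)) :
    ∃ y, y ≠ 0 ∧ Q y = 0 ∧ (U Q x).map β.toMonoidHom = U Q y := by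
  obtain ⟨y, hy, hxy⟩ := hH.good.exists_partner hx0 hx
  have HP : Fr Q x y := ⟨hx, hy, hxy⟩
  obtain ⟨p, hp⟩ := CharP.exists F
  obtain ⟨d, hpp, -⟩ := FiniteField.card F p
  haveI : Fact p.Prime := ⟨hpp⟩
  obtain ⟨K, hK⟩ := (isPGroup_U HP (p := p)).exists_le_sylow
  have hK' : IsPGroup p ((K : Subgroup (G Q)).map β.toMonoidHom) := K.2.map _
  obtain ⟨K', hKK'⟩ := hK'.exists_le_sylow
  have hcard : (K : Subgroup (G Q)).map β.toMonoidHom = K' := Subgroup.eq_of_le_of_card_ge hKK' (by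
    rw [Subgroup.card_map_of_injective β.injective, K.card_eq_multiplicity,
      K'.card_eq_multiplicity])
  obtain ⟨g, hg⟩ := MulAction.exists_smul_eq (G Q) K K'
  have hg' : (K' : Subgroup (G Q)) = (K : Subgroup (G Q)).map (MulAut.conj g).toMonoidHom := by
    rw [← hg, Sylow.coe_subgroup_smul, Subgroup.pointwise_smul_def]
    rfl
  have hfix : (K : Subgroup (G Q)).map ((MulAut.conj g)⁻¹ * β).toMonoidHom = K := by
    rw [← map_map_mul, hcard, hg', map_map_mul, inv_mul_cancel, map_one_aut]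
  have h := map_U_of_sylow hH HP K hK _ hfix
  refine ⟨g.1.1 x, fun h0 => hx0 (g.1.1.map_eq_zero_iff.1 h0), by rw [G_Q, hx], ?_⟩
  rw [← map_conj_U g hx]
  conv_rhs => rw [← h, map_map_mul, mul_inv_cancel_left]

omit [Fintype F] [Finite V] in
/-- Root groups of two points meet nontrivially only if the points are orthogonal. -/
theorem U_inf_eq_bot (HP : Fr Q e f) : U Q e ⊓ U Q f = ⊥ := by
  rw [Subgroup.eq_bot_iff_forall]
  rintro g ⟨h1, h2⟩
  obtain ⟨u, hu, rfl⟩ := (mem_U_e HP).1 h1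
  obtain ⟨w, hw, h⟩ := (mem_U_e HP.symm).1 h2
  have h3 := congrArg (fun g : G Q => g.1.1 e) h
  simp only [sg_fix_self HP.ee hu.ex, sg_e_f HP.symm hw] at h3
  have h4 : w = Q w • f := by linear_combination (norm := module) -h3
  have h5 := congrArg (fun v => polar Q v e) h4
  simp only [polar_smul_left, hw.xf, HP.fe, smul_eq_mul, mul_one] at h5
  rw [h, h4, ← h5, zero_smul, sg_zero HP.ff]

omit [Fintype F] [Finite V] in
theorem U_inf_ne_bot (hH : Hyp Q) {x y : V} (hx0 : x ≠ 0) (hy0 : y ≠ 0) (hx : Q x = 0) (hy : Q y = 0)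
    (hxy : polar Q x y = 0) : U Q x ⊓ U Q y ≠ ⊥ := by
  by_cases hdep : ∃ c : F, y = c • x
  · obtain ⟨c, rfl⟩ := hdep
    obtain ⟨z, hz, hxz⟩ := hH.good.exists_partner hx0 hx
    rw [U_smul hx (fun h => hy0 (by rw [h, zero_smul])), inf_idem]
    exact U_ne_bot hH ⟨hx, hz, hxz⟩
  · intro h
    push Not at hdep
    have h1 : sg Q x y = 1 := by
      refine Subgroup.mem_bot.1 (h ▸ ⟨sg_mem_U x hxy, ?_⟩)
      rw [sg_swap hx hy hxy]
      exact sg_mem_U y (by rw [polar_neg_right, polar_comm, hxy, neg_zero])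
    obtain ⟨z, hz, hxz⟩ := hH.good.exists_partner hx0 hx
    have h2 := congrArg (fun g : G Q => g.1.1 z) h1
    simp only [sg_apply hx hxy, polar_comm Q z x, hxz, one_smul, G_one, hy, zero_mul, zero_smul,
      sub_zero] at h2
    exact hdep (polar Q z y) (by linear_combination (norm := module) h2)

/-- The data of the normal form. -/
structure Norm (e f : V) (β : MulAut (G Q)) : Prop where
  me : (U Q e).map β.toMonoidHom = U Q e
  mf : (U Q f).map β.toMonoidHom = U Q f

theorem exists_normalise (hH : Hyp Q) (HP : Fr Q e f) (β : MulAut (G Q)) :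
    ∃ g : G Q, Norm e f ((MulAut.conj g)⁻¹ * β) := by
  obtain ⟨x, hx0, hx, hxe⟩ := map_U hH HP.e_ne HP.ee β
  obtain ⟨y, hy0, hy, hyf⟩ := map_U hH HP.f_ne HP.ff β
  have hxy : polar Q x y ≠ 0 := by
    intro h
    apply U_inf_ne_bot hH hx0 hy0 hx hy h
    rw [← hxe, ← hyf, ← Subgroup.map_inf_eq _ _ _ β.injective, U_inf_eq_bot HP, Subgroup.map_bot]
  set y' := (polar Q x y)⁻¹ • y with hy'
  obtain ⟨t, ht, h1, h2⟩ := hH.good.exists_map_pair HP.ee HP.ff HP.ef hx
    (show Q y' = 0 by rw [hy', QuadraticMap.map_smul, hy, smul_zero])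
    (by rw [hy', polar_smul_right, smul_eq_mul, inv_mul_cancel₀ hxy])
  refine ⟨⟨t, ht⟩, ?_, ?_⟩
  · rw [← map_map_mul, hxe, ← h1]
    exact (congrArg (Subgroup.map _) (map_conj_U ⟨t, ht⟩ HP.ee).symm).trans
      (by rw [map_map_mul, inv_mul_cancel, map_one_aut])
  · rw [← map_map_mul, hyf, ← U_smul hy (inv_ne_zero hxy), ← hy', ← h2]
    exact (congrArg (Subgroup.map _) (map_conj_U ⟨t, ht⟩ HP.ff).symm).trans
      (by rw [map_map_mul, inv_mul_cancel, map_one_aut])

end Cfsg.Agent.Lib.AutOmegaOdd
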