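import Cfsg.Agent.Lib.AutOmegaOdd.Main
import Cfsg.Agent.Lib.Classical.QuadOmega.Main
import Cfsg.Prelude.Def_LieTypeDatum

/-!
The standard odd dimensional form: automorphisms of `PΩ` through isometries and field automorphisms.
-/

set_option autoImplicit false

namespace Cfsg.Agent.Lib.AutOmegaOdd

open QuadraticMap Matrix Cfsg.Agent.Lib.Classical.Quad Cfsg.Agent.Lib.Classical.QuadOmega

universe u

variable {m : ℕ} {F : Type u} [Field F]

/-- The index type. -/
abbrev I (m : ℕ) := Unit ⊕ (Fin m ⊕ Fin m)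

/-- The standard form. -/
noncomputable def Qo (m : ℕ) (F : Type u) [Field F] : QuadraticForm F (I m → F) :=
  (splitQ m (sqQ F)).comp (eOdd (F := F) m).symm.toLinearMap

theorem Qo_apply (v : I m → F) : Qo m F v = Cfsg.quadFormOdd m F v := by
  rw [Qo, QuadraticMap.comp_apply, ← odd_apply]
  exact congrArg _ ((eOdd m).apply_symm_apply v)

theorem Qo_formula (v : I m → F) :
    Qo m F v = v (.inl ()) ^ 2 + ∑ i, v (.inr (.inl i)) * v (.inr (.inr i)) := Qo_apply v

theorem Qo_map {K : Type*} [Field K] (ι : F →+* K) (v : I m → F) :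
    Qo m K (fun i => ι (v i)) = ι (Qo m F v) := by
  simp [Qo_formula, map_sum]

theorem good_comp {V W : Type*} [AddCommGroup V] [Module F V] [AddCommGroup W] [Module F W]
    {Q : QuadraticForm F W} (hG : Good Q) (e : V ≃ₗ[F] W) :
    Good (Q.comp (e : V →ₗ[F] W)) := by
  have hp : ∀ x y, polar (Q.comp (e : V →ₗ[F] W)) x y = polar Q (e x) (e y) := fun x y => by
    simp [polar]
  refine ⟨fun x hx => e.map_eq_zero_iff.1 (hG.nd _ fun y => ?_), fun a b c d => ?_, ?_⟩
  · obtain ⟨y, rfl⟩ := e.surjective y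
    rw [← hp]; exact hx y
  · obtain ⟨v, hv⟩ := hG.spare (e a) (e b) (e c) (e d)
    refine ⟨e.symm v, fun h => hv ?_⟩
    have := Submodule.mem_map_of_mem (f := (e : V →ₗ[F] W)) h
    rw [Submodule.map_span, LinearEquiv.coe_coe, e.apply_symm_apply] at this
    simpa [Set.image_insert_eq, Set.image_singleton] using this
  · obtain ⟨a, b, c, d, h⟩ := hG.two
    refine ⟨e.symm a, e.symm b, e.symm c, e.symm d, ?_⟩
    simp only [hp, QuadraticMap.comp_apply, LinearEquiv.coe_coe, e.apply_symm_apply]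
    exact h

theorem hyp_Qo (h2 : (2 : F) ≠ 0) (hm : 3 ≤ m) : Hyp (Qo m F) := by
  refine ⟨good_comp (good_odd' h2 hm) (eOdd (F := F) m).symm, h2, ?_⟩
  rw [Module.finrank_pi, Fintype.card_sum, Fintype.card_sum, Fintype.card_unit, Fintype.card_fin]
  exact ⟨m, by ring⟩
where
  good_odd' (h2 : (2 : F) ≠ 0) {m : ℕ} (hm : 3 ≤ m) : Good (splitQ m (sqQ F)) :=
    good_splitQ (nd_sqQ h2) hm

/-! ### From `Ω` as a matrix group -/

/-- `Ω` as a matrix group. -/
abbrev Om (m : ℕ) (F : Type u) [Field F] := ↥(Cfsg.Omega F (Cfsg.quadFormOdd m F))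

/-- `PΩ`. -/
abbrev P (m : ℕ) (F : Type u) [Field F] := Cfsg.POmega F (Cfsg.quadFormOdd m F)

/-- The matrix of an element of `Ω`. -/
abbrev mat (s : Om m F) : Matrix (I m) (I m) F :=
  (((s : ↥(Cfsg.isometryGroup F (Cfsg.quadFormOdd m F))) : GL (I m) F) : Matrix (I m) (I m) F)

/-- Matrix isometries as linear maps. -/
noncomputable def toI (m : ℕ) (F : Type u) [Field F] :
    Cfsg.isometryGroup F (Cfsg.quadFormOdd m F) ≃* isoG (Qo m F) :=
  isoEquiv _ (LinearEquiv.refl F _) fun v => (Qo_apply v).symm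

theorem toI_apply (g : Cfsg.isometryGroup F (Cfsg.quadFormOdd m F)) (v : I m → F) :
    (toI m F g).1 v = ((g : GL (I m) F) : Matrix (I m) (I m) F) *ᵥ v := rfl

variable [Fintype F] (hH : Hyp (Qo m F))

include hH in
theorem map_Omega :
    (Cfsg.Omega F (Cfsg.quadFormOdd m F)).map (toI m F).toMonoidHom = siegelGroup (Qo m F) := by
  unfold Cfsg.Omega
  rw [← commutator_eq hH.good, commutator_def, commutator_def, Subgroup.map_commutator,
    Subgroup.map_top_of_surjective _ (toI m F).surjective]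

/-- `Ω` as a group of linear maps. -/
noncomputable def toG : Om m F ≃* G (Qo m F) :=
  ((toI m F).subgroupMap _).trans (MulEquiv.subgroupCongr (map_Omega hH))

theorem toG_apply (s : Om m F) (v : I m → F) : (toG hH s).1.1 v = mat s *ᵥ v := rfl

include hH in
theorem center_G : Subgroup.center (G (Qo m F)) = ⊥ :=
  (Subgroup.eq_bot_iff_forall _).2 fun g hg => by
    rcases center_cases hH.good hg with h | h
    · exact Subtype.ext h
    · exact (neg_absurd hH g 1 fun v => by rw [h, negOne_apply, G_one]).elim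

include hH in
theorem center_Om : Subgroup.center (Om m F) = ⊥ := by
  refine (Subgroup.eq_bot_iff_forall _).2 fun z hz => (toG hH).injective ?_
  rw [map_one]
  refine Subgroup.mem_bot.1 (center_G hH ▸ Subgroup.mem_center_iff.2 fun k => ?_)
  obtain ⟨k, rfl⟩ := (toG hH).surjective k
  rw [← map_mul, ← map_mul, Subgroup.mem_center_iff.1 hz k]

/-- `Ω` and `PΩ`. -/
noncomputable def toP : G (Qo m F) ≃* P m F :=
  (toG hH).symm.trans <| MulEquiv.ofBijective (QuotientGroup.mk' (Subgroup.center (Om m F)))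
    ⟨(MonoidHom.ker_eq_bot_iff _).1 (by rw [QuotientGroup.ker_mk', center_Om hH]),
      QuotientGroup.mk'_surjective _⟩

theorem toP_toG (s : Om m F) : toP hH (toG hH s) = QuotientGroup.mk s := by
  show QuotientGroup.mk ((toG hH).symm (toG hH s)) = _
  rw [MulEquiv.symm_apply_apply]

/-- Automorphisms transported to `PΩ`. -/
noncomputable def D : MulAut (G (Qo m F)) ≃* MulAut (P m F) := MulAut.congr (toP hH)

theorem D_apply (a : MulAut (G (Qo m F))) (g : G (Qo m F)) : D hH a (toP hH g) = toP hH (a g) := by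
  show toP hH (a ((toP hH).symm (toP hH g))) = _
  rw [MulEquiv.symm_apply_apply]

theorem D_ext {β γ : MulAut (P m F)} (h : ∀ g, β (toP hH g) = γ (toP hH g)) : β = γ :=
  MulEquiv.ext fun x => by obtain ⟨g, rfl⟩ := (toP hH).surjective x; exact h g

/-! ### Isometries and field automorphisms -/

/-- A field automorphism on vectors. -/
noncomputable def fieldSemi (σ : F ≃+* F) : Semi (Qo m F) where
  σ := σ
  H := 1
  H0 := one_ne_zero
  map := AddEquiv.piCongrRight fun _ => σ.toAddEquiv
  map_smul c v := funext fun i => map_mul σ c (v i)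
  map_Q v := by
    rw [one_mul]
    exact Qo_map σ.toRingHom v

omit [Fintype F] in
theorem fieldSemi_map (σ : F ≃+* F) (v : I m → F) : (fieldSemi σ).map v = fun i => σ (v i) := rfl

/-- A field automorphism on isometries. -/
noncomputable def mapI (σ : F ≃+* F) : isoG (Qo m F) →* isoG (Qo m F) := (fieldSemi σ).conjI

omit [Fintype F] in
theorem mapI_apply (σ : F ≃+* F) (h : isoG (Qo m F)) (v : I m → F) :
    (mapI σ h).1 (fun i => σ (v i)) = fun i => σ (h.1 v i) := (fieldSemi σ).conjI_apply h v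

/-- A field automorphism on `Ω`. -/
noncomputable def fS : (F ≃+* F) →* MulAut (G (Qo m F)) where
  toFun σ := (fieldSemi σ).conjG
  map_one' := MulEquiv.ext fun g => G_ext fun v => rfl
  map_mul' _ _ := MulEquiv.ext fun g => G_ext fun v => rfl

/-- Conjugation by an isometry, on `PΩ`. -/
noncomputable def cI : isoG (Qo m F) →* MulAut (P m F) :=
  (D hH).toMonoidHom.comp MulAut.conjNormal

/-- A field automorphism of `PΩ`. -/
noncomputable def Fld : (F ≃+* F) →* MulAut (P m F) := (D hH).toMonoidHom.comp fS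

theorem cI_apply (h : isoG (Qo m F)) : cI hH h = D hH (MulAut.conjNormal h) := rfl

theorem Fld_apply (σ : F ≃+* F) : Fld hH σ = D hH (fS σ) := rfl

theorem twist (σ : F ≃+* F) (h : isoG (Qo m F)) :
    Fld hH σ * cI hH h = cI hH (mapI σ h) * Fld hH σ := by
  rw [cI_apply, cI_apply, Fld_apply, ← map_mul, ← map_mul]
  congr 1
  refine MulEquiv.ext fun g => Subtype.ext ?_
  show (fieldSemi σ).conjI (h * g.1 * h⁻¹) = mapI σ h * (fieldSemi σ).conjI g.1 * (mapI σ h)⁻¹
  rw [map_mul, map_mul, map_inv]; rfl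

/-- The semisimilitude `h ∘ σ`. -/
noncomputable def stdSemi (h : isoG (Qo m F)) (σ : F ≃+* F) : Semi (Qo m F) where
  σ := σ
  H := 1
  H0 := one_ne_zero
  map := (fieldSemi σ).map.trans h.1.toAddEquiv
  map_smul c v := by
    show h.1 ((fieldSemi σ).map (c • v)) = σ c • h.1 ((fieldSemi σ).map v)
    rw [← map_smul]
    exact congrArg h.1 ((fieldSemi σ).map_smul c v)
  map_Q v := by
    show Qo m F (h.1 ((fieldSemi σ).map v)) = _
    rw [iso_Q]; exact (fieldSemi σ).map_Q v

theorem D_stdSemi (h : isoG (Qo m F)) (σ : F ≃+* F) :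
    D hH (stdSemi h σ).conjG = cI hH h * Fld hH σ := by
  rw [cI_apply, Fld_apply, ← map_mul]
  exact congrArg (D hH) (MulEquiv.ext fun g => G_ext fun v => rfl)

/-- Similitudes have square multipliers. -/
theorem exists_sqrt_mult (hH : Hyp (Qo m F)) (L : (I m → F) →ₗ[F] (I m → F)) {c : F} (hc : c ≠ 0)
    (hL : ∀ v, Qo m F (L v) = c * Qo m F v) : ∃ l : F, l ≠ 0 ∧ c = l ^ 2 := by
  set A := LinearMap.toMatrix₂' F (polarBilin (Qo m F)) with hA
  have hB : (polarBilin (Qo m F)).compl₁₂ L L = c • polarBilin (Qo m F) := by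
    refine LinearMap.ext fun x => LinearMap.ext fun y => ?_
    show polar (Qo m F) (L x) (L y) = c * polar (Qo m F) x y
    simp only [polar, ← map_add, hL]
    ring
  have h := congrArg (fun B => (LinearMap.toMatrix₂' F B).det) hB
  simp only [LinearMap.toMatrix₂'_compl₁₂, map_smul, Matrix.det_mul, Matrix.det_transpose,
    Matrix.det_smul, ← hA] at h
  have hA0 : A.det ≠ 0 := by
    intro h0
    obtain ⟨v, hv, hv0⟩ := Matrix.exists_mulVec_eq_zero_iff.2 h0
    refine hv (hH.good.nd v fun y => ?_)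
    have hAy : polar (Qo m F) y v = y ⬝ᵥ (A *ᵥ v) := by
      rw [← Matrix.toLinearMap₂'_apply', hA, Matrix.toLinearMap₂'_toMatrix']
      rfl
    rw [polar_comm, hAy, hv0, dotProduct_zero]
  have hd : (LinearMap.toMatrix' L).det ^ 2 = c ^ Fintype.card (I m) := by
    refine mul_right_cancel₀ hA0 ?_
    rw [← h]; ring
  obtain ⟨k, hk⟩ : Odd (Fintype.card (I m)) := by
    simp only [Fintype.card_sum, Fintype.card_unit, Fintype.card_fin]; exact ⟨m, by ring⟩
  rw [hk, pow_succ c, mul_comm 2 k, pow_mul c] at hd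
  refine ⟨(LinearMap.toMatrix' L).det / c ^ k, div_ne_zero (fun h0 => ?_) (pow_ne_zero _ hc), ?_⟩
  · rw [h0, zero_pow two_ne_zero] at hd
    exact mul_ne_zero (pow_ne_zero _ (pow_ne_zero _ hc)) hc hd.symm
  · rw [div_pow, hd, mul_div_cancel_left₀]
    exact pow_ne_zero _ (pow_ne_zero _ hc)

include hH in
/-- A semisimilitude is a scalar times an isometry times a field automorphism. -/
theorem Semi.exists_std (ψ : Semi (Qo m F)) :
    ∃ h : isoG (Qo m F), ψ.conjG = (stdSemi h ψ.σ).conjG := by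
  let L : (I m → F) →ₗ[F] (I m → F) :=
    { toFun := fun v => ψ.map fun i => ψ.σ.symm (v i)
      map_add' := fun v w => by
        rw [← map_add]; congr 1; funext i; simp
      map_smul' := fun c v => by
        rw [show (fun i => ψ.σ.symm ((c • v) i)) = ψ.σ.symm c • fun i => ψ.σ.symm (v i) by
          funext i; simp, ψ.map_smul, RingEquiv.apply_symm_apply]
        rfl }
  have hL : ∀ v, Qo m F (L v) = ψ.H * Qo m F v := fun v => by
    show Qo m F (ψ.map _) = _
    rw [ψ.map_Q]
    congr 1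
    rw [← RingEquiv.coe_toRingHom, ← Qo_map]
    congr 1; funext i; simp
  obtain ⟨l, hl, hlH⟩ := exists_sqrt_mult hH L ψ.H0 hL
  have hinj : Function.Injective ((l⁻¹) • L) := fun v w h => by
    have h' : L v = L w := smul_right_injective _ (inv_ne_zero hl) h
    funext i
    exact ψ.σ.symm.injective (congrFun (ψ.map.injective h') i)
  let h : isoG (Qo m F) := ⟨LinearEquiv.ofInjectiveEndo ((l⁻¹) • L) hinj, fun v => by
    show Qo m F ((l⁻¹) • L v) = _
    rw [QuadraticMap.map_smul, hL, smul_eq_mul, hlH]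
    field_simp⟩
  refine ⟨h, MulEquiv.ext fun g => G_ext fun v => ?_⟩
  obtain ⟨z, rfl⟩ := ψ.map.surjective v
  rw [ψ.conjG_apply]
  have hz : ∀ w, ψ.map w = l • (stdSemi h ψ.σ).map w := fun w => by
    show _ = l • ((l⁻¹) • L fun i => ψ.σ (w i))
    rw [smul_inv_smul₀ hl]
    show ψ.map w = ψ.map fun i => ψ.σ.symm (ψ.σ (w i))
    simp
  rw [hz, hz, _root_.map_smul, Semi.conjG_apply]

include hH in
/-- Every automorphism is an isometry times a field automorphism. -/
theorem std_all_P (β : MulAut (P m F)) :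
    ∃ (h : isoG (Qo m F)) (σ : F ≃+* F), β = cI hH h * Fld hH σ := by
  obtain ⟨a, rfl⟩ := (D hH).surjective β
  obtain ⟨g, ψ, rfl⟩ := AutOmegaOdd.std_all hH a
  obtain ⟨h, hh⟩ := ψ.exists_std hH
  refine ⟨g.1 * h, ψ.σ, ?_⟩
  rw [map_mul, map_mul, hh, D_stdSemi, mul_assoc]
  congr 1

omit [Fintype F] in
theorem conjG_congr {ψ φ : Semi (Qo m F)} (h : ∀ v, ψ.map v = φ.map v) : ψ.conjG = φ.conjG := by
  refine MulEquiv.ext fun z => G_ext fun v => ?_
  obtain ⟨w, rfl⟩ := φ.map.surjective v
  rw [Semi.conjG_apply, ← h, Semi.conjG_apply, h]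

/-! ### The predicates -/

/-- The semisimilitude of a pair. -/
noncomputable def pairSemi {g : GL (I m) F} {σ : F ≃+* F}
    (hg : Cfsg.IsSemisimilarityPair (Cfsg.quadFormOdd m F) g σ) : Semi (Qo m F) where
  σ := σ
  H := (hg.choose : F)
  H0 := hg.choose.ne_zero
  map := (fieldSemi σ).map.trans (toAut (LinearEquiv.refl F (I m → F)) g).toAddEquiv
  map_smul c v := by
    show toAut (LinearEquiv.refl F (I m → F)) g ((fieldSemi σ).map (c • v)) =
      σ c • toAut (LinearEquiv.refl F (I m → F)) g ((fieldSemi σ).map v)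
    rw [← map_smul]
    exact congrArg (toAut (LinearEquiv.refl F (I m → F)) g) ((fieldSemi σ).map_smul c v)
  map_Q v := by
    show Qo m F ((g : Matrix (I m) (I m) F) *ᵥ fun i => σ (v i)) = _
    rw [Qo_apply, Qo_apply]
    exact hg.choose_spec v

omit [Fintype F] in
theorem map_mulVec' (σ : F ≃+* F) (M : Matrix (I m) (I m) F) (v : I m → F) :
    M.map σ *ᵥ (fun i => σ (v i)) = fun i => σ ((M *ᵥ v) i) := by
  funext i
  exact (RingHom.map_mulVec σ.toRingHom M v i).symm

theorem induced_iff {g : GL (I m) F} {σ : F ≃+* F}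
    (hg : Cfsg.IsSemisimilarityPair (Cfsg.quadFormOdd m F) g σ) {β : MulAut (P m F)} :
    Cfsg.IsInducedBySemilinearPOmega (Cfsg.quadFormOdd m F) g σ β ↔
      β = D hH (pairSemi hg).conjG := by
  have key : ∀ s s' : Om m F, mat s' = (g : Matrix (I m) (I m) F) * (mat s).map σ *
      ((g⁻¹ : GL (I m) F) : Matrix (I m) (I m) F) ↔ toG hH s' = (pairSemi hg).conjG (toG hH s) := by
    intro s s'
    have hact : ∀ z, ((g : Matrix (I m) (I m) F) * (mat s).map σ *
        ((g⁻¹ : GL (I m) F) : Matrix (I m) (I m) F)) *ᵥ ((pairSemi hg).map z) =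
        (pairSemi hg).map (mat s *ᵥ z) := fun z => by
      show _ *ᵥ ((g : Matrix (I m) (I m) F) *ᵥ fun i => σ (z i)) =
        (g : Matrix (I m) (I m) F) *ᵥ fun i => σ ((mat s *ᵥ z) i)
      rw [mulVec_mulVec, mul_assoc, ← Units.val_mul, inv_mul_cancel, Units.val_one, mul_one,
        ← mulVec_mulVec, map_mulVec']
    constructor
    · intro h
      refine G_ext fun v => ?_
      obtain ⟨z, rfl⟩ := (pairSemi hg).map.surjective v
      rw [Semi.conjG_apply, toG_apply, toG_apply, h, hact]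
    · intro h
      refine Matrix.ext_iff_mulVec.2 fun v => ?_
      obtain ⟨z, rfl⟩ := (pairSemi hg).map.surjective v
      rw [← toG_apply hH, h, Semi.conjG_apply, toG_apply, hact]
  constructor
  · intro h
    refine D_ext hH fun z => ?_
    obtain ⟨s, rfl⟩ := (toG hH).surjective z
    obtain ⟨s', hs'⟩ := (toG hH).surjective ((pairSemi hg).conjG (toG hH s))
    rw [D_apply, ← hs', toP_toG, toP_toG]
    exact h s s' ((key s s').2 hs')
  · rintro rfl s s' hs'
    rw [← toP_toG hH, D_apply, ← (key s s').1 hs', toP_toG]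

theorem fieldAut_iff {σ : F ≃+* F} {β : MulAut (P m F)} :
    Cfsg.IsFieldAutPOmegaOf (Cfsg.quadFormOdd m F) σ β ↔ β = Fld hH σ := by
  have hg : Cfsg.IsSemisimilarityPair (Cfsg.quadFormOdd m F) (1 : GL (I m) F) σ := ⟨1, fun v => by
    rw [Units.val_one, Units.val_one, one_mulVec, one_mul, ← Qo_apply, ← Qo_apply]
    exact Qo_map σ.toRingHom v⟩
  have h := induced_iff hH hg (β := β)
  have e : D hH (pairSemi hg).conjG = Fld hH σ := by
    rw [Fld_apply]
    congr 1
    refine MulEquiv.ext fun z => G_ext fun v => ?_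
    obtain ⟨w, rfl⟩ := (fieldSemi σ).map.surjective v
    show _ = ((fieldSemi σ).conjG z).1.1 ((fieldSemi σ).map w)
    rw [Semi.conjG_apply]
    have hm' : ∀ w, (pairSemi hg).map w = (fieldSemi σ).map w := fun w => by
      show ((1 : GL (I m) F) : Matrix (I m) (I m) F) *ᵥ _ = _
      rw [Units.val_one, one_mulVec]; rfl
    rw [← hm', Semi.conjG_apply, hm']
  rw [← e, ← h]
  constructor <;> intro hh s s' hs'
  · refine hh s s' ?_
    rw [hs', inv_one, Units.val_one, one_mul, mul_one]
  · refine hh s s' ?_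
    rw [hs', inv_one, Units.val_one, one_mul, mul_one]

include hH in
/-- Similarities induce the automorphisms of isometries. -/
theorem inndiag_eq : Cfsg.inndiagPOmegaOdd m F = (cI hH).range := by
  apply le_antisymm
  · refine (Subgroup.closure_le _).2 ?_
    rintro β ⟨g, ⟨c, hc⟩, hβ⟩
    have hg : Cfsg.IsSemisimilarityPair (Cfsg.quadFormOdd m F) g (RingEquiv.refl F) :=
      ⟨c, fun v => hc v⟩
    obtain ⟨h, hh⟩ := (pairSemi hg).exists_std hH
    refine ⟨h, ?_⟩
    rw [(induced_iff hH hg).1 hβ, hh, D_stdSemi]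
    show cI hH h = cI hH h * Fld hH 1
    rw [map_one, mul_one]
  · rintro _ ⟨h, rfl⟩
    refine Subgroup.subset_closure ?_
    obtain ⟨g, hgh⟩ := (toI m F).surjective h
    have hg : Cfsg.IsSemisimilarityPair (Cfsg.quadFormOdd m F) (g : GL (I m) F) (RingEquiv.refl F) :=
      ⟨1, fun v => by rw [Units.val_one, one_mul]; exact g.2 v v⟩
    refine ⟨g, ⟨1, fun v => by rw [Units.val_one, one_mul]; exact g.2 v v⟩, ?_⟩
    rw [induced_iff hH hg, ← mul_one (cI hH h),
      show (1 : MulAut (P m F)) = Fld hH 1 from (map_one _).symm, ← D_stdSemi]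
    subst hgh
    exact congrArg (D hH) (conjG_congr fun v => rfl)

include hH in
theorem gamma_eq_top : Cfsg.gammaPOmega F (Cfsg.quadFormOdd m F) = ⊤ := by
  refine eq_top_iff.2 fun β _ => Subgroup.subset_closure ?_
  obtain ⟨h, σ, rfl⟩ := std_all_P hH β
  obtain ⟨g, rfl⟩ := (toI m F).surjective h
  have hg : Cfsg.IsSemisimilarityPair (Cfsg.quadFormOdd m F) (g : GL (I m) F) σ := ⟨1, fun v => by
    rw [Units.val_one, one_mul]
    refine (g.2 (fun i => σ (v i)) fun i => σ (v i)).trans ?_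
    show Cfsg.quadFormOdd m F _ = _
    rw [← Qo_apply, ← Qo_apply]
    exact Qo_map σ.toRingHom v⟩
  refine ⟨g, σ, hg, ?_⟩
  rw [induced_iff hH hg, ← D_stdSemi]
  exact congrArg (D hH) (conjG_congr fun v => rfl)

end Cfsg.Agent.Lib.AutOmegaOdd
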